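import Cfsg.Agent.LThreeMB.Inputs
import Cfsg.Agent.MonsterU.AmalElts

/-!
# Elements of order 3 commuting with a simple group of order divisible by 17 (helper849)

In a finite simple group with a chart, an `x` of order 3 in `C(z)` such that a simple group of even order divisible by 17
embeds in `C(x)` has fixed rank 12, and `C(x) / ⟨x⟩ ≅ Fi24'`.
-/

set_option autoImplicit false

namespace Cfsg.Agent.H849.FrTwelve

open Cfsg Cfsg.Agent.MonsterU Cfsg.Agent.LThree Cfsg.Agent.LThreeMB
open Cfsg.Agent.MonsterU.Ch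
open Cfsg.Agent.MonsterU.Lam2 (L2 IsType)
open Cfsg.Spor (Co1)
open Subgroup (centralizer zpowers mem_centralizer_singleton_iff)

universe u

theorem inj_or {A B : Type*} [Group A] [Group B] [IsSimpleGroup A] (f : A →* B) :
    Function.Injective f ∨ ∀ a, f a = 1 := by
  rcases (inferInstance : f.ker.Normal).eq_bot_or_eq_top with h | h
  · left; exact (MonoidHom.ker_eq_bot_iff f).1 h
  · right
    intro a
    have : a ∈ f.ker := by rw [h]; trivial
    exact this

variable {G : Type u} [Group G] {Q : Subgroup G} {z : G} {eta : G → L2}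
  {pi : Subgroup.centralizer ({z} : Set G) →* Co1}

/-- `z` is not isolated in `C(x)`. -/
theorem not_isolated [Finite G] (h : Chart Q z eta pi) {x : Subgroup.centralizer ({z} : Set G)}
    (hiso : ∀ d : G, d * (x : G) = x * d → (d * z * d⁻¹) * z = z * (d * z * d⁻¹) → d * z * d⁻¹ = z)
    {S : Type*} [Group S] [IsSimpleGroup S] (hev : Even (Nat.card S)) (h17 : 17 ∣ Nat.card S)
    (θ : S →* ↥(centralizer ({(x : G)} : Set G))) (hθ : Function.Injective θ) : False := by
  have hzo : orderOf (zD x) = 2 := by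
    rw [← Subgroup.orderOf_coe]
    exact LargeExtra.Base.orderOf_z h.large
  obtain ⟨N, hN, hNo, hsup⟩ := ZStar.exists_core hzo (fun d hd =>
    Subtype.ext (hiso d (mem_centralizer_singleton_iff.1 d.2) (congrArg Subtype.val hd)))
  rcases inj_or ((QuotientGroup.mk' N).comp θ) with hi | ht
  · have h1 : Nat.card S ∣ Nat.card (↥(centralizer ({(x : G)} : Set G)) ⧸ N) :=
      Subgroup.card_dvd_of_injective _ hi
    let α : ↥(centralizer ({zD x} : Set ↥(centralizer ({(x : G)} : Set G)))) →*
        ↥(centralizer ({(x : G)} : Set G)) ⧸ N := (QuotientGroup.mk' N).comp (Subgroup.subtype _)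
    have hα : Function.Surjective α := by
      intro y
      obtain ⟨g, rfl⟩ := QuotientGroup.mk'_surjective N y
      have hg : g ∈ N ⊔ centralizer ({zD x} : Set ↥(centralizer ({(x : G)} : Set G))) := by rw [hsup]; trivial
      obtain ⟨n, hn, c, hc, rfl⟩ := Subgroup.mem_sup_of_normal_left.1 hg
      refine ⟨⟨c, hc⟩, ?_⟩
      show QuotientGroup.mk' N c = QuotientGroup.mk' N (n * c)
      rw [map_mul, show QuotientGroup.mk' N n = 1 from (QuotientGroup.eq_one_iff _).2 hn, one_mul]
    have h2 := Subgroup.card_dvd_of_surjective α hα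
    have h3 : Nat.card ↥(centralizer ({zD x} : Set ↥(centralizer ({(x : G)} : Set G)))) ∣
        Nat.card ↥(centralizer ({z} : Set G)) := by
      refine (Subgroup.card_dvd_of_injective (toCC x) (toCC_inj x)).trans ?_
      exact Subgroup.card_dvd_of_le inf_le_left
    have h4 := ((h17.trans h1).trans h2).trans h3
    rw [AmalElts.card_centralizer h] at h4
    norm_num at h4
  · have h1 : ∀ s, θ s ∈ N := fun s => (QuotientGroup.eq_one_iff _).1 (ht s)
    have h2 : Nat.card S ∣ Nat.card ↥N := by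
      refine Subgroup.card_dvd_of_injective (θ.codRestrict N h1) ?_
      intro a b hab
      exact hθ (congrArg Subtype.val hab)
    exact (Nat.not_even_iff_odd.2 (hNo.of_dvd_nat h2)) hev

theorem card_cent [Finite G] {x : G} (hx : orderOf x = 3) :
    Nat.card ↥(centralizer ({x} : Set G)) = Nat.card (XX x) * 3 := by
  rw [Subgroup.card_eq_card_quotient_mul_card_subgroup (Zx x), Zx, Nat.card_zpowers, ← Subgroup.orderOf_coe]
  congr 1

/-- **Fixed rank 8.** -/
theorem iso_th [Finite G] [IsSimpleGroup G] (h : Chart Q z eta pi) (I : CoOne)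
    {x : Subgroup.centralizer ({z} : Set G)} (hx : orderOf x = 3) (hfr : fr (pi x) = 2 ^ 8) :
    Spor.IsoTh (XX (x : G)) := by
  obtain ⟨s, hs, hfs, ⟨e⟩, hg, hf⟩ := I.nine
  obtain ⟨x', hx', hs', c, hc⟩ := exists_conj_to h hx hs (by rw [hfr]; exact I.eight) (by rw [hfs, hfr])
  subst hs'
  obtain ⟨-, ⟨f⟩⟩ := exists_XX_equiv hc
  exact isoTh_congr f (LThreeMB.iso_th h hx' hfs (by rw [hfs]; exact I.eight) hf e hg)

/-- **Fixed rank 12.** -/
theorem iso_fi [Finite G] [IsSimpleGroup G] (h : Chart Q z eta pi) (I : CoOne)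
    {x : Subgroup.centralizer ({z} : Set G)} (hx : orderOf x = 3) (hfr : fr (pi x) = 2 ^ 12) :
    Spor.IsoFi24' (XX (x : G)) := by
  obtain ⟨s, hs, hfs, ht, h4⟩ := I.psu
  obtain ⟨x', hx', hs', c, hc⟩ := exists_conj_to h hx hs (by rw [hfr]; exact I.twelve) (by rw [hfs, hfr])
  subst hs'
  obtain ⟨-, ⟨f⟩⟩ := exists_XX_equiv hc
  exact isoFi24_congr f (LThreeMB.iso_fi24 h hx' hfs (by rw [hfs]; exact I.twelve) ht h4)

/-- **The main result.** -/
theorem main [Finite G] [IsSimpleGroup G] (h : Chart Q z eta pi) (I : CoOne) (ht : TrNe z pi) (hp : HasPair z pi)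
    {x : Subgroup.centralizer ({z} : Set G)} (hx : orderOf x = 3)
    {S : Type*} [Group S] [IsSimpleGroup S] (hev : Even (Nat.card S)) (h17 : 17 ∣ Nat.card S)
    (θ : S →* ↥(centralizer ({(x : G)} : Set G))) (hθ : Function.Injective θ) : Spor.IsoFi24' (XX (x : G)) := by
  rcases I.ranks (pi x) (orderOf_pi h hx) with h1 | h1 | h1 | h1
  · exact (not_isolated h (fun d hd hc => isolated h ht hx h1 d hd hc) hev h17 θ hθ).elim
  · obtain ⟨x₀, u, g, hx₀, hfr₀, huz, hux, hne, hg⟩ := hp
    obtain ⟨k, hk⟩ := conj_six h ht I.ranks I.six (fun x hx h2 => by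
      have := good_of_inputs h I hx h2
      exact ⟨this.simple, this.nc⟩) hx₀ hfr₀ huz hux hne hg hx h1
    obtain ⟨⟨e⟩, -⟩ := exists_XX_equiv hk
    exact (not_isolated h (fun d hd hc => isolated h ht hx₀ hfr₀ d hd hc) hev h17 (e.toMonoidHom.comp θ)
      (e.injective.comp hθ)).elim
  · exfalso
    obtain ⟨e⟩ := iso_th h I hx h1
    have h2 := Subgroup.card_dvd_of_injective θ hθ
    have hx' : orderOf (x : G) = 3 := by rw [Subgroup.orderOf_coe, hx]
    rw [card_cent hx', Nat.card_congr e.toEquiv, Cfsg.Agent.S1700.result.2] at h2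
    have h3 := h17.trans h2
    norm_num at h3
  · exact iso_fi h I hx h1

end Cfsg.Agent.H849.FrTwelve
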