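import Cfsg.Agent.KFacts.MulY.FiTree

/-!
# `Fi23` in the centraliser of `ζ`, and `ζ ∈ C(ζ)'` (helper849)

`y` a family with the relations `PRel`, `ZRel`, `ζ = ev y zW`.
-/

set_option autoImplicit false
set_option maxRecDepth 100000
set_option linter.constructorNameAsVariable false

namespace Cfsg.Agent.H849.ZetaWords

open Cfsg Cfsg.Spor Cfsg.Agent.Bimonster Cfsg.Agent.Bimonster.Tits
open Cfsg.Agent.KFacts.MulY.Tree Cfsg.Agent.KFacts.MulY.FiTree
open Subgroup (centralizer mem_centralizer_singleton_iff)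

variable {G : Type*} [Group G] {y : ℕ → G}

/-- the letters of `Fi23` in the nodes -/
def rho : ℕ → ℕ
  | 0 => 0
  | 1 => 6
  | 2 => 7
  | 3 => 8
  | 4 => 9
  | 6 => 11
  | 7 => 12
  | 11 => 1
  | 12 => 2
  | 13 => 3
  | _ => 0

theorem rho_key : ∀ i < 16, rho i < 13 ∧ adjB 5 (rho i) = false := by decide

theorem rho_adj : ∀ i < 16, ∀ j < 16, S23 i = true → S23 j = true → adjB (rho i) (rho j) = adjB i j := by decide

theorem rho_key' (i : ℕ) : rho i < 13 ∧ adjB 5 (rho i) = false := by
  by_cases h : i < 16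
  · exact rho_key i h
  · have : rho i = 0 := by
      unfold rho
      split <;> first | rfl | omega
    rw [this]
    decide

theorem ev_comp (f : ℕ → ℕ) (w : List ℕ) : ev (fun i => y (f i)) w = ev y (w.map f) := by
  unfold ev
  rw [List.map_map]
  rfl

theorem ev_scale {c : G} {u : ℕ → G} (hc : ∀ i, c * u i = u i * c) (w : List ℕ) :
    ev (fun i => c * u i) w = c ^ w.length * ev u w := by
  induction w with
  | nil => simp
  | cons i w ih =>
    have h1 : u i * c ^ w.length = c ^ w.length * u i := by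
      have : Commute (c ^ w.length) (u i) := (show Commute c (u i) from hc i).pow_left _
      exact this.eq.symm
    rw [ev_cons, ev_cons, ih, List.length_cons, pow_succ']
    calc c * u i * (c ^ w.length * ev u w) = c * (u i * c ^ w.length) * ev u w := by group
      _ = c * c ^ w.length * (u i * ev u w) := by rw [h1]; group

theorem cox_u (h : CoxRel 14 y) : CoxS S23 (fun i => y (rho i)) where
  sq i _ := h.sq _ (by have := (rho_key' i).1; omega)
  cm i j hi hj hij := h.cm _ (by have := (rho_key' i).1; omega) _ (by have := (rho_key' j).1; omega)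
    (by rw [rho_adj i (okS23.1 i hi) j (okS23.1 j hj) hi hj]; exact hij)
  br i j hi hj hij := h.br _ (by have := (rho_key' i).1; omega) _ (by have := (rho_key' j).1; omega)
    (by rw [rho_adj i (okS23.1 i hi) j (okS23.1 j hj) hi hj]; exact hij)

theorem comm5 (h : CoxRel 14 y) (i : ℕ) : y 5 * y (rho i) = y (rho i) * y 5 :=
  h.cm 5 (by norm_num) _ (by have := (rho_key' i).1; omega) (rho_key' i).2

theorem cox_v (h : CoxRel 14 y) : CoxS S23 (fun i => y 5 * y (rho i)) := by
  have hu := cox_u h
  have hc := comm5 h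
  have h5 : y 5 * y 5 = 1 := h.sq 5 (by norm_num)
  have e2 : ∀ i j, y 5 * y (rho i) * (y 5 * y (rho j)) = y (rho i) * y (rho j) := by
    intro i j
    calc y 5 * y (rho i) * (y 5 * y (rho j)) = y 5 * (y (rho i) * y 5) * y (rho j) := by group
      _ = (y 5 * y 5) * y (rho i) * y (rho j) := by rw [← hc i]; group
      _ = _ := by rw [h5, one_mul]
  have e3 : ∀ i j, y 5 * y (rho i) * (y 5 * y (rho j)) * (y 5 * y (rho i)) =
      y 5 * (y (rho i) * y (rho j) * y (rho i)) := by
    intro i j
    rw [e2]
    calc y (rho i) * y (rho j) * (y 5 * y (rho i)) = y (rho i) * (y (rho j) * y 5) * y (rho i) := by group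
      _ = (y (rho i) * y 5) * y (rho j) * y (rho i) := by rw [← hc j]; group
      _ = _ := by rw [← hc i]; group
  refine ⟨fun i hi => ?_, fun i j hi hj hij => ?_, fun i j hi hj hij => ?_⟩
  · show y 5 * y (rho i) * (y 5 * y (rho i)) = 1
    rw [e2]; exact hu.sq i hi
  · show y 5 * y (rho i) * (y 5 * y (rho j)) = y 5 * y (rho j) * (y 5 * y (rho i))
    rw [e2, e2]; exact hu.cm i j hi hj hij
  · show y 5 * y (rho i) * (y 5 * y (rho j)) * (y 5 * y (rho i)) =
      y 5 * y (rho j) * (y 5 * y (rho i)) * (y 5 * y (rho j))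
    rw [e3, e3]
    have := hu.br i j hi hj hij
    exact congrArg (fun g => y 5 * g) this

/-- **The relations of `Fi23` for the elements `y 5 * y (rho i)`.** -/
theorem firel_v (h : CoxRel 14 y) (h5 : y 5 = ev y f1a ^ 9) (hs : ev y spW ^ 10 = 1) :
    FiRel (fun i => y 5 * y (rho i)) := by
  have hc := comm5 h
  have hsq : y 5 * y 5 = 1 := h.sq 5 (by norm_num)
  have hpw : y 5 ^ 2 = 1 := by rw [pow_two]; exact hsq
  have hscale : ∀ (w : List ℕ) (n : ℕ), (ev (fun i => y 5 * y (rho i)) w) ^ n =
      (y 5) ^ (w.length * n) * (ev y (w.map rho)) ^ n := by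
    intro w n
    rw [ev_scale hc, ev_comp]
    have hcw : Commute (y 5 ^ w.length) (ev y (w.map rho)) := by
      apply Commute.pow_left
      rw [← ev_comp]
      induction w with
      | nil => simp
      | cons i w ih =>
        rw [ev_cons]
        exact (show Commute (y 5) (y (rho i)) from hc i).mul_right ih
    rw [hcw.mul_pow, ← pow_mul]
  refine firel (cox_v h) ?_ ?_
  · rw [hscale]
    have e1 : ev y (f3a.map rho) ^ 9 = ev y (e7W.map rho) ^ 9 := by
      rw [← ev_comp, ← ev_comp]
      exact fiA_good (cox_u h)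
    have e2 : f3a.map rho = f1a := by decide
    rw [← e1, e2, ← h5]
    have e3 : e7W.length * 9 = 2 * 31 + 1 := by decide
    rw [e3, pow_succ, pow_mul, hpw, one_pow, one_mul, hsq]
  · rw [hscale]
    have e3 : spW.length * 10 = 2 * 45 := by decide
    have e1 : ev y (spW.map rho) = ev y [0, 6, 7, 0, 11, 12] * ev y [0, 1, 2] := by
      rw [← ev_append]; rfl
    have e2 : ev y spW = ev y [0, 1, 2] * ev y [0, 6, 7, 0, 11, 12] := by
      rw [← ev_append]; rfl
    have e4 : ev y (spW.map rho) = ev y [0, 6, 7, 0, 11, 12] * ev y spW * (ev y [0, 6, 7, 0, 11, 12])⁻¹ := by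
      rw [e1, e2]; group
    rw [e3, pow_mul, hpw, one_pow, one_mul, e4, conj_pow, hs, mul_one, mul_inv_cancel]

/-! ### The element `ζ` -/

theorem pair_comm {a b x : G} (ha : a * a = 1) (hax : a * x * a = x⁻¹) (hb : b * b = 1) (hbx : b * x * b = x⁻¹) :
    (a * b) * x = x * (a * b) := by
  have h1 : b * x = x⁻¹ * b := by
    calc b * x = b * x * (b * b) := by rw [hb, mul_one]
      _ = (b * x * b) * b := by group
      _ = x⁻¹ * b := by rw [hbx]
  have h2 : a * x⁻¹ = x * a := by
    calc a * x⁻¹ = a * (a * x * a) := by rw [hax]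
      _ = (a * a) * x * a := by group
      _ = x * a := by rw [ha, one_mul]
  calc (a * b) * x = a * (b * x) := by group
    _ = (a * x⁻¹) * b := by rw [h1]; group
    _ = x * (a * b) := by rw [h2]; group

/-- **`Fi23` maps to the centraliser of `ζ`.** -/
theorem exists_hom (h : CoxRel 14 y) (h5 : y 5 = ev y f1a ^ 9) (hs : ev y spW ^ 10 = 1)
    {x : G} (hx : ∀ i < 13, y i * x * y i = x⁻¹) (hne : y 0 ≠ y 1) :
    ∃ θ : Fi23 →* ↥(centralizer ({x} : Set G)), ∃ u, θ u ≠ 1 := by
  obtain ⟨θ, hθ⟩ := fi_hom (firel_v h h5 hs)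
  have hmem : ∀ u : Fi23, θ u ∈ centralizer ({x} : Set G) := by
    have : (⊤ : Subgroup Fi23) ≤ (centralizer ({x} : Set G)).comap θ := by
      rw [← PresentedGroup.closure_range_of, Subgroup.closure_le]
      rintro _ ⟨g, rfl⟩
      show θ (PresentedGroup.of g) ∈ centralizer ({x} : Set G)
      rw [hθ, mem_centralizer_singleton_iff]
      have hr := (rho_key' (fiIdx g)).1
      exact pair_comm (h.sq 5 (by norm_num)) (hx 5 (by norm_num)) (h.sq _ (by omega)) (hx _ hr)
    intro u
    exact this (Subgroup.mem_top u)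
  refine ⟨θ.codRestrict _ hmem, ?_⟩
  by_contra hcon
  have h1 : ∀ u, θ u = 1 := by
    intro u
    by_contra hu
    exact hcon ⟨u, fun e => hu (congrArg Subtype.val e)⟩
  apply hne
  have a0 : y 5 * y 0 = 1 := by rw [← h1 (PresentedGroup.of .d), hθ]; rfl
  have a1 : y 5 * y 1 = 1 := by rw [← h1 (PresentedGroup.of .c), hθ]; rfl
  exact mul_left_cancel (a0.trans a1.symm)

section comm

variable {x : G}

/-- the commutator subgroup of `C(x)` as a subgroup of `G` -/
def KK (x : G) : Subgroup G := (_root_.commutator ↥(centralizer ({x} : Set G))).map (centralizer ({x} : Set G)).subtype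

theorem comm_mem {a b : G} (ha : a * x = x * a) (hb : b * x = x * b) : a * b * a⁻¹ * b⁻¹ ∈ KK x := by
  have ha' : a ∈ centralizer ({x} : Set G) := mem_centralizer_singleton_iff.2 ha
  have hb' : b ∈ centralizer ({x} : Set G) := mem_centralizer_singleton_iff.2 hb
  refine ⟨(⟨a, ha'⟩ : centralizer ({x} : Set G)) * ⟨b, hb'⟩ * (⟨a, ha'⟩ : centralizer ({x} : Set G))⁻¹ *
    (⟨b, hb'⟩ : centralizer ({x} : Set G))⁻¹, ?_, rfl⟩
  exact Subgroup.commutator_mem_commutator (Subgroup.mem_top _) (Subgroup.mem_top _)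

theorem edge_mem (h : CoxRel 14 y) (hx : ∀ i < 13, y i * x * y i = x⁻¹) {i j l : ℕ} (hi : i < 13) (hj : j < 13)
    (hl : l < 13) (hij : adjB i j = true) (hli : adjB l i = false) (hlj : adjB l j = false) :
    y i * y j ∈ KK x := by
  have si := h.sq i (by omega)
  have sj := h.sq j (by omega)
  have sl := h.sq l (by omega)
  have ci := h.cm l (by omega) i (by omega) hli
  have cj := h.cm l (by omega) j (by omega) hlj
  have br := h.br i (by omega) j (by omega) hij
  have h1 := comm_mem (x := x) (pair_comm sj (hx j hj) sl (hx l hl)) (pair_comm si (hx i hi) sl (hx l hl))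
  have ii : (y i)⁻¹ = y i := inv_eq_of_mul_eq_one_left si
  have ij : (y j)⁻¹ = y j := inv_eq_of_mul_eq_one_left sj
  have il : (y l)⁻¹ = y l := inv_eq_of_mul_eq_one_left sl
  have e : y j * y l * (y i * y l) * (y j * y l)⁻¹ * (y i * y l)⁻¹ = y i * y j := by
    rw [mul_inv_rev, mul_inv_rev, ii, ij, il]
    calc y j * y l * (y i * y l) * (y l * y j) * (y l * y i)
        = y j * (y l * y i) * (y l * y l) * y j * (y l * y i) := by group
      _ = y j * y i * (y l * y j) * (y l * y i) := by rw [sl, ci]; group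
      _ = y j * y i * y j * (y l * y l) * y i := by rw [cj]; group
      _ = (y j * y i * y j) * y i := by rw [sl]; group
      _ = y i * y j * (y i * y i) := by rw [← br]; group
      _ = y i * y j := by rw [si, mul_one]
  rw [e] at h1
  exact h1

theorem edge_tab : ∀ i < 13, 0 < i → par i < i ∧ adjB (par i) i = true ∧
    ∃ l < 13, adjB l (par i) = false ∧ adjB l i = false := by decide

theorem zero_mem (h : CoxRel 14 y) (hx : ∀ i < 13, y i * x * y i = x⁻¹) : ∀ i < 13, y 0 * y i ∈ KK x := by
  intro i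
  induction i using Nat.strong_induction_on with
  | _ i ih =>
    intro hi
    by_cases h0 : i = 0
    · subst h0
      rw [h.sq 0 (by norm_num)]
      exact one_mem _
    · obtain ⟨h1, h2, l, hl, h3, h4⟩ := edge_tab i hi (by omega)
      have a1 := ih (par i) h1 (by omega)
      have a2 := edge_mem h hx (by omega) hi hl h2 h3 h4
      have := mul_mem a1 a2
      have e : y 0 * y (par i) * (y (par i) * y i) = y 0 * y i := by
        calc y 0 * y (par i) * (y (par i) * y i) = y 0 * (y (par i) * y (par i)) * y i := by group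
          _ = y 0 * y i := by rw [h.sq (par i) (by omega), mul_one]
      rwa [e] at this

theorem word_mem (h : CoxRel 14 y) (hx : ∀ i < 13, y i * x * y i = x⁻¹) :
    ∀ w : List ℕ, (∀ i ∈ w, i < 13) → (Even w.length → ev y w ∈ KK x) ∧ (Odd w.length → y 0 * ev y w ∈ KK x) := by
  intro w
  induction w with
  | nil =>
    intro _
    refine ⟨fun _ => ?_, fun h => ?_⟩
    · rw [ev_nil]; exact one_mem _
    · rw [List.length_nil] at h; exact absurd h (by decide)
  | cons i w ih =>
    intro hw
    obtain ⟨h1, h2⟩ := ih fun j hj => hw j (List.mem_cons_of_mem _ hj)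
    have hi := zero_mem h hx i (hw i List.mem_cons_self)
    have s0 := h.sq 0 (by norm_num)
    have i0 : (y 0)⁻¹ = y 0 := inv_eq_of_mul_eq_one_left s0
    have ii : (y i)⁻¹ = y i := inv_eq_of_mul_eq_one_left (h.sq i (by have := hw i List.mem_cons_self; omega))
    constructor
    · intro he
      rw [List.length_cons, Nat.even_add_one, Nat.not_even_iff_odd] at he
      have := mul_mem (inv_mem hi) (h2 he)
      have e : (y 0 * y i)⁻¹ * (y 0 * ev y w) = ev y (i :: w) := by
        rw [ev_cons, mul_inv_rev, i0, ii]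
        calc y i * y 0 * (y 0 * ev y w) = y i * (y 0 * y 0) * ev y w := by group
          _ = _ := by rw [s0, mul_one]
      rwa [e] at this
    · intro ho
      rw [List.length_cons, Nat.odd_add_one, Nat.not_odd_iff_even] at ho
      have := mul_mem hi (h1 ho)
      have e : y 0 * y i * ev y w = y 0 * ev y (i :: w) := by rw [ev_cons]; group
      rwa [e] at this

end comm

theorem zW_lt : ∀ i ∈ zW, i < 13 := by decide +kernel

theorem zW_even : Even zW.length := by decide +kernel

/-- **`ζ ∈ C(ζ)'`.** -/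
theorem zeta_mem (h : CoxRel 14 y) (hz : ZRel y) :
    (⟨ev y zW, mem_centralizer_singleton_iff.2 rfl⟩ : ↥(centralizer ({ev y zW} : Set G))) ∈
      _root_.commutator ↥(centralizer ({ev y zW} : Set G)) := by
  obtain ⟨c, hc, he⟩ := (word_mem (x := ev y zW) h hz.inv zW zW_lt).1 zW_even
  have : c = ⟨ev y zW, mem_centralizer_singleton_iff.2 rfl⟩ := Subtype.ext he
  rw [← this]
  exact hc

theorem one_step (h : CoxRel 14 y) {j k : ℕ} (hj : j < 14) (hk : k < 14) (hjk : adjB j k = true) (h1 : y j = 1) :
    y k = 1 := by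
  have := h.br j hj k hk hjk
  rw [h1, one_mul, mul_one] at this
  exact this.trans (h.sq k hk)

theorem zeta_ne (h : CoxRel 14 y) (hz : ZRel y) (hne : y 0 ≠ y 1) : ev y zW ≠ 1 := by
  intro e
  have h13 := h.sq 13 (by norm_num)
  have h1 := hz.ord
  rw [e, mul_one, pow_succ, pow_two, h13, one_mul] at h1
  have h12 := one_step h (by norm_num) (by norm_num) (by decide) h1 (k := 12)
  have h11 := one_step h (by norm_num) (by norm_num) (by decide) h12 (k := 11)
  have h0 := one_step h (by norm_num) (by norm_num) (by decide) h11 (k := 0)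
  have h1' := one_step h (by norm_num) (by norm_num) (by decide) h0 (k := 1)
  exact hne (h0.trans h1'.symm)

theorem order_zeta (h : CoxRel 14 y) (hz : ZRel y) (hne : y 0 ≠ y 1) : orderOf (ev y zW) = 3 := by
  have : Fact (Nat.Prime 3) := ⟨Nat.prime_three⟩
  exact orderOf_eq_prime hz.cube (zeta_ne h hz hne)

end Cfsg.Agent.H849.ZetaWords
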