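import Cfsg.Agent.H849.ThreeNorm
import Cfsg.Agent.H849.ZetaWords
import Cfsg.Agent.H849.FrTwelve
import Cfsg.Agent.LThreeMB.Row
import Cfsg.Agent.LThreeMB.CoOneFin
import Cfsg.Agent.S1697

/-!
# The subgroup of order 3 of the Monster with centraliser `3·Fi24'` (helper849)

`exists_data`: the data `ThreeNorm.Data` in the `196884`-dimensional model of the Monster; `x` is the element `ζ` of the
nodes.
-/

set_option autoImplicit false
set_option maxRecDepth 100000

namespace Cfsg.Agent.H849.FiModel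

open Cfsg Cfsg.Agent.MonsterX Cfsg.Agent.MonsterX.InstData Cfsg.Agent.MonsterX.MainPack Cfsg.Agent.MonsterU
open Cfsg.Agent.MonsterP Cfsg.Agent.MonsterN Cfsg.Agent.LThree Cfsg.Agent.LThreeMB
open Cfsg.Agent.MonsterX.MainBasic Cfsg.Agent.MonsterX.MainSimple Cfsg.Agent.MonsterX.Model
open Cfsg.Agent.Bimonster Cfsg.Agent.Bimonster.Tits
open Subgroup (centralizer mem_centralizer_singleton_iff)

/-- `C(x) / ⟨x⟩ ≅ Fi24'` for an `x` of order 3 of the model commuting with a simple group of order divisible by 17. -/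
theorem iso_of_simple {x : ↥InstData.M.G} (hx : orderOf x = 3) {S : Type} [Group S] [IsSimpleGroup S]
    (hev : Even (Nat.card S)) (h17 : 17 ∣ Nat.card S) (θ : S →* ↥(centralizer ({x} : Set ↥InstData.M.G)))
    (hθ : Function.Injective θ) : Spor.IsoFi24' (XX x) := by
  have := Row.finite_model
  have := Row.simple_model
  have he : ¬ Odd (Nat.card ↥(centralizer ({x} : Set ↥InstData.M.G))) := by
    rw [Nat.not_odd_iff_even, even_iff_two_dvd]
    exact (even_iff_two_dvd.1 hev).trans (Subgroup.card_dvd_of_injective θ hθ)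
  obtain ⟨g, hg⟩ := LThreeM.FiRow.exists_z_of_even hx he
  have h1 : (g⁻¹ * x * g) * KDone.K.z = KDone.K.z * (g⁻¹ * x * g) := by
    calc (g⁻¹ * x * g) * KDone.K.z = g⁻¹ * (x * (g * KDone.K.z * g⁻¹)) * g := by group
      _ = g⁻¹ * ((g * KDone.K.z * g⁻¹) * x) * g := by rw [hg]
      _ = KDone.K.z * (g⁻¹ * x * g) := by group
  let x' : centralizer ({KDone.K.z} : Set ↥InstData.M.G) := ⟨g⁻¹ * x * g, mem_centralizer_singleton_iff.2 h1⟩
  have h3 : g * (x' : ↥InstData.M.G) * g⁻¹ = x := by
    show g * (g⁻¹ * x * g) * g⁻¹ = x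
    group
  have hx' : orderOf x' = 3 := by
    rw [← Subgroup.orderOf_coe, ← hx, ← h3]
    exact (orderOf_injective (MulAut.conj g).toMonoidHom (MulAut.conj g).injective (x' : ↥InstData.M.G)).symm
  obtain ⟨⟨e⟩, ⟨f⟩⟩ := exists_XX_equiv h3
  exact isoFi24_congr f (FrTwelve.main (KChart.chart KDone.lft Row.cent) CoOneFin.coOne
    (KPair.trNe KDone.lft Row.cent (LThreeMBTr.traceNe KDone.lft LThreeMBTr.TensK.tens))
    (KPair.hasPair KDone.lft Row.cent Row.second COct.octPair) hx' hev h17 (e.symm.toMonoidHom.comp θ)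
    (e.symm.injective.comp hθ))

/-- **The data.** -/
theorem exists_data : ∃ (x t : ↥InstData.M.G) (π : centralizer ({x} : Set ↥InstData.M.G) →*
    ↥(_root_.commutator Spor.Fi24)), ThreeNorm.Data x t π := by
  have hP := NodesGrp.prel LitFin.H
  have hZ := NodesGrp.zrel LitFin.H
  have hne := NodesNe.ne LitFin.H
  generalize NodesGrp.y LitFin.H = y at hP hZ hne
  have hx := ZetaWords.order_zeta hP.cox hZ hne
  have hF : IsSimpleGroup Spor.Fi23 := Cfsg.Agent.S1697.result.1
  have hFc : Nat.card Spor.Fi23 = 4089470473293004800 := Cfsg.Agent.S1697.result.2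
  obtain ⟨θ, u, hu⟩ := ZetaWords.exists_hom hP.cox hP.f1a hP.spider hZ.inv hne
  have hθ : Function.Injective θ := (FrTwelve.inj_or θ).resolve_right fun h => hu (h u)
  obtain ⟨e⟩ := iso_of_simple hx (S := Spor.Fi23) (by rw [hFc]; decide) (by rw [hFc]; norm_num) θ hθ
  refine ⟨ev y zW, y 0, e.toMonoidHom.comp (QuotientGroup.mk' (Zx (ev y zW))), ?_⟩
  exact
    { ord := hx
      inv := by
        rw [inv_eq_of_mul_eq_one_left (hP.cox.sq 0 (by norm_num))]
        exact hZ.inv 0 (by norm_num)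
      surj := e.surjective.comp (QuotientGroup.mk'_surjective _)
      ker := by
        intro k
        show e (QuotientGroup.mk' (Zx (ev y zW)) k) = 1 ↔ _
        rw [map_eq_one_iff e e.injective]
        show (QuotientGroup.mk k : XX (ev y zW)) = 1 ↔ _
        rw [QuotientGroup.eq_one_iff, Zx, Subgroup.mem_zpowers_iff, Subgroup.mem_zpowers_iff]
        constructor
        · rintro ⟨n, hn⟩
          exact ⟨n, congrArg Subtype.val hn⟩
        · rintro ⟨n, hn⟩
          exact ⟨n, Subtype.ext hn⟩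
      comm := fun _ => ZetaWords.zeta_mem hP.cox hZ }

end Cfsg.Agent.H849.FiModel
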