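import Cfsg.Agent.MonsterX.HNFive
import Cfsg.Agent.MonsterX.ThPart

/-!
# `HN` in the model of the Monster (helper849)

The subgroup of `MonsterX.HNFive.five` is isomorphic to the presented group `Spor.HN`.
-/

set_option autoImplicit false

namespace Cfsg.Agent.H849.SubHN

open Cfsg Cfsg.Spor Cfsg.Agent.MonsterX.WordSub Cfsg.Agent.MonsterX.WordRels Cfsg.Agent.MonsterX.WordsCodeM
open Cfsg.Agent.MonsterX.Space Cfsg.Agent.MonsterX.Conc Cfsg.Agent.MonsterX.Model Cfsg.Agent.MonsterX.InstData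
open Cfsg.Agent.MonsterX.BaseVec Cfsg.Agent.MonsterX.HNRelEq Cfsg.Agent.MonsterX.HNAbs Cfsg.Agent.MonsterX.HNWord
open Cfsg.Agent.MonsterX.HNPart Cfsg.Agent.MonsterX.HNFive Cfsg.Agent.MonsterX

theorem hn_of {H : Type} [Group H] (hs : IsHN Cfsg.Spor.HN) (f : Cfsg.Spor.HN.Gen → H)
    (h : ∀ w ∈ hnWs, ev f w = 1) (hne : ∃ x, f x ≠ 1) :
    ∃ K : Subgroup H, Spor.IsoHN K ∧ K = Subgroup.closure (Set.range f) := by
  obtain ⟨K, he, hK⟩ := exists_subgroup Cfsg.Spor.HN.edges Cfsg.Spor.HN.extra hs.1 f (by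
    rintro r (hr | hr)
    · exact cox_lift _ f (fun x hx => absurd hx (by simp [coxNodes, Cfsg.Spor.HN.edges])) r hr
    · exact lift_extra hn_extra f h r hr) hne
  exact ⟨K, he.map MulEquiv.symm, hK⟩

theorem hn_part {Γ : Type} [Group Γ] {G : Subgroup Γ} (hs : Cfsg.IsHN Cfsg.Spor.HN) (f : Cfsg.Spor.HN.Gen → Γ)
    (hf : ∀ a, f a ∈ G) (h : ∀ r ∈ hnWs, ev f r = 1) (hne : ∃ a, f a ≠ 1) (y : Γ) (hy : y ∈ G)
    (hy5 : y ^ 5 = 1) (hy1 : y ≠ 1) (hc : ∀ a, y * f a = f a * y) :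
    ∃ x : G, orderOf x = 5 ∧ ∃ K : Subgroup G, K ≤ Subgroup.centralizer ({x} : Set G) ∧ Spor.IsoHN K := by
  have : Fact (Nat.Prime 5) := ⟨by norm_num⟩
  let f' : Cfsg.Spor.HN.Gen → G := fun a => ⟨f a, hf a⟩
  obtain ⟨K, hK, hKe⟩ := hn_of hs f' (fun r hr => ev_sub (h r hr)) (by
    obtain ⟨a, ha⟩ := hne
    exact ⟨a, fun h1 => ha (congrArg Subtype.val h1)⟩)
  refine ⟨⟨y, hy⟩, orderOf_eq_prime (Subtype.ext hy5) (fun h1 => hy1 (congrArg Subtype.val h1)), K, ?_, hK⟩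
  rw [hKe]
  exact closure_le_centralizer fun a => Subtype.ext (hc a)

variable {K₀ : Type} [Group K₀]

theorem part (hs : Cfsg.IsHN Cfsg.Spor.HN) (hG : MGroup M K₀) (hR : MRep M) (hL : MLat M) (hO : MOrbit M)
    (hT : MTrans M) (hl : Lines) {v v₂ p : V ≃ₗ[ℚ] V} (c : Config M X Y Z v v₂ p) :
    ∃ x : Conc.G, orderOf x = 5 ∧ ∃ K : Subgroup Conc.G,
      K ≤ Subgroup.centralizer ({x} : Set Conc.G) ∧ Spor.IsoHN K := by
  refine hn_part hs (gen v) ?_ (HNRelEq.rels hG hR hL hl (gen v) rfl rfl rfl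
    (c.rel_t5 hG hR hL hO hT) (c.rel_tx hG hR hL hO hT) (c.rel_ty hG hR hL hO hT) (c.rel_zt hG hR hL hO hT))
    ⟨.t, c.t_ne hG hR hL hO hT⟩ (p * tt M v * p⁻¹) (c.s_mem hG hR) (c.s_five hG hR hL hO hT)
    (c.s_ne hG hR hL hO hT) ?_
  · intro a
    cases a with
    | x => exact c.x_mem
    | y => exact C_le_G Y_mem_C
    | z => exact c.z_mem
    | t => exact tt_mem hG hR c.v_mem
  · intro a
    cases a with
    | x => exact c.comm_s_x hG hR hL hO hT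
    | y => exact c.comm_s_y hG hR hL hO hT
    | z => exact c.comm_s_z hG hR hL hO hT
    | t => exact c.comm_s_t hG hR hL hO hT

/-- **`HN` in the centraliser of an element of order 5 of the model.** -/
theorem five (P : Pack K₀) (hT : MTrans M) (hs : Cfsg.IsHN Cfsg.Spor.HN) :
    ∃ x : Conc.G, orderOf x = 5 ∧ ∃ K : Subgroup Conc.G,
      K ≤ Subgroup.centralizer ({x} : Set Conc.G) ∧ Spor.IsoHN K := by
  have c := HNAxes.config P
  rw [op_gX, op_gY, op_gZ] at c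
  exact part hs P.hG P.hR P.hL P.hO hT P.lines c

end Cfsg.Agent.H849.SubHN
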