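import Mathlib

/-!
# The normaliser of a subgroup of order 3 (helper849)

`Data x t π`: `x` of order 3 inverted by `t`, `π : C(x) → F'` onto with kernel `⟨x⟩`, `x ∈ C(x)'`. If `F` is a finite
group with `|F : F'| = 2`, `Z(F') = 1` and every automorphism of `F'` is induced by `F`, then `N(⟨x⟩)/⟨x⟩ ≅ F` and `⟨x⟩`
has no complement in `N(⟨x⟩)` (`main`).
-/

set_option autoImplicit false

namespace Cfsg.Agent.H849.ThreeNorm

open Subgroup

variable {G F : Type*} [Group G] [Group F]

/-- The data. -/
structure Data (x t : G) (π : centralizer ({x} : Set G) →* ↥(_root_.commutator F)) : Prop where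
  ord : orderOf x = 3
  inv : t * x * t⁻¹ = x⁻¹
  surj : Function.Surjective π
  ker : ∀ k : centralizer ({x} : Set G), π k = 1 ↔ (k : G) ∈ zpowers x
  comm : ∀ h : x ∈ centralizer ({x} : Set G), (⟨x, h⟩ : centralizer ({x} : Set G)) ∈
    _root_.commutator (centralizer ({x} : Set G))

theorem mem_zp {x y : G} (hx : orderOf x = 3) (hy : y ∈ zpowers x) : y = 1 ∨ y = x ∨ y = x⁻¹ := by
  obtain ⟨k, rfl⟩ := mem_zpowers_iff.1 hy
  have h1 : x ^ k = x ^ (k % 3) := by
    have := zpow_mod_orderOf x k
    rw [hx] at this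
    exact this.symm
  rw [h1]
  have h2 : k % 3 = 0 ∨ k % 3 = 1 ∨ k % 3 = 2 := by omega
  have h3 : x ^ (3 : ℕ) = 1 := by rw [← hx, pow_orderOf_eq_one]
  rcases h2 with h2 | h2 | h2
  · left; rw [h2, zpow_zero]
  · right; left; rw [h2, zpow_one]
  · right; right
    rw [h2]
    rw [eq_inv_iff_mul_eq_one]
    calc x ^ (2 : ℤ) * x = x ^ (3 : ℕ) := by group
      _ = 1 := h3

theorem ne_inv {x : G} (hx : orderOf x = 3) : x ≠ x⁻¹ := by
  intro h
  have h1 : x ^ 2 = 1 := by
    rw [pow_two]
    nth_rw 2 [h]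
    exact mul_inv_cancel x
  have h2 := orderOf_dvd_of_pow_eq_one h1
  rw [hx] at h2
  norm_num at h2

theorem ne_one {x : G} (hx : orderOf x = 3) : x ≠ 1 := by
  rintro rfl
  rw [orderOf_one] at hx
  norm_num at hx

/-- the normaliser -/
abbrev N (x : G) : Subgroup G := Subgroup.normalizer ((zpowers x : Subgroup G) : Set G)

theorem conj_cases {x : G} (hx : orderOf x = 3) (n : N x) :
    (n : G) * x * (n : G)⁻¹ = x ∨ (n : G) * x * (n : G)⁻¹ = x⁻¹ := by
  have h1 := (mem_normalizer_iff.1 n.2 x).1 (mem_zpowers x)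
  rcases mem_zp hx h1 with h | h | h
  · exfalso
    apply ne_one hx
    calc x = (n : G)⁻¹ * ((n : G) * x * (n : G)⁻¹) * n := by group
      _ = 1 := by rw [h]; group
  · exact Or.inl h
  · exact Or.inr h

theorem mem_N_of {x n : G} (h : n * x * n⁻¹ = x ∨ n * x * n⁻¹ = x⁻¹) : n ∈ N x := by
  have hmap : (zpowers x).map (MulAut.conj n).toMonoidHom = zpowers x := by
    rw [MonoidHom.map_zpowers]
    show zpowers (n * x * n⁻¹) = zpowers x
    rcases h with h | h
    · rw [h]
    · rw [h, zpowers_inv]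
  rw [mem_normalizer_iff]
  intro y
  have h1 : y ∈ zpowers x ↔ (MulAut.conj n).toMonoidHom y ∈ (zpowers x).map (MulAut.conj n).toMonoidHom :=
    (Subgroup.mem_map_iff_mem (MulAut.conj n).injective).symm
  rw [hmap] at h1
  exact h1

theorem cent_le {x : G} : centralizer ({x} : Set G) ≤ N x := by
  intro g hg
  apply mem_N_of
  left
  rw [mem_centralizer_singleton_iff.1 hg, mul_inv_cancel_right]

theorem mem_cent_iff {x n : G} : n ∈ centralizer ({x} : Set G) ↔ n * x * n⁻¹ = x := by
  rw [mem_centralizer_singleton_iff, mul_inv_eq_iff_eq_mul]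

/-- conjugation by an element of the normaliser -/
def cj {x : G} (hx : orderOf x = 3) (n : N x) : centralizer ({x} : Set G) ≃* centralizer ({x} : Set G) :=
  have key : ∀ m : N x, ∀ g : centralizer ({x} : Set G), (m : G) * g * (m : G)⁻¹ ∈ centralizer ({x} : Set G) := by
    intro m g
    have hg := mem_cent_iff.1 g.2
    have hgi : (g : G) * x⁻¹ * (g : G)⁻¹ = x⁻¹ := by
      calc (g : G) * x⁻¹ * (g : G)⁻¹ = ((g : G) * x * (g : G)⁻¹)⁻¹ := by group
        _ = x⁻¹ := by rw [hg]
    have hm : (m : G)⁻¹ * x * m = x ∨ (m : G)⁻¹ * x * m = x⁻¹ := by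
      have := conj_cases hx m⁻¹
      simpa using this
    rw [mem_cent_iff]
    have e : (m : G) * g * (m : G)⁻¹ * x * ((m : G) * g * (m : G)⁻¹)⁻¹ =
        (m : G) * ((g : G) * ((m : G)⁻¹ * x * m) * (g : G)⁻¹) * (m : G)⁻¹ := by group
    rw [e]
    rcases hm with h | h
    · rw [h, hg]
      have h2 : (m : G) * x * (m : G)⁻¹ = (m : G) * ((m : G)⁻¹ * x * m) * (m : G)⁻¹ :=
        congrArg (fun y => (m : G) * y * (m : G)⁻¹) h.symm
      rw [h2]
      group
    · rw [h, hgi]
      have h2 : x = (m : G) * x⁻¹ * (m : G)⁻¹ := by rw [← h]; group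
      exact h2.symm
  { toFun := fun g => ⟨(n : G) * g * (n : G)⁻¹, key n g⟩
    invFun := fun g => ⟨((n⁻¹ : N x) : G) * g * ((n⁻¹ : N x) : G)⁻¹, key n⁻¹ g⟩
    left_inv := fun g => Subtype.ext (by
      show (n : G)⁻¹ * ((n : G) * g * (n : G)⁻¹) * (n : G)⁻¹⁻¹ = g
      group)
    right_inv := fun g => Subtype.ext (by
      show (n : G) * ((n : G)⁻¹ * g * (n : G)⁻¹⁻¹) * (n : G)⁻¹ = g
      group)
    map_mul' := fun a b => Subtype.ext (by
      show (n : G) * ((a : G) * b) * (n : G)⁻¹ = (n : G) * a * (n : G)⁻¹ * ((n : G) * b * (n : G)⁻¹)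
      group) }

theorem cj_coe {x : G} (hx : orderOf x = 3) (n : N x) (g : centralizer ({x} : Set G)) :
    (cj hx n g : G) = (n : G) * g * (n : G)⁻¹ := rfl

theorem comm_eq {C : Type*} [Group C] {g h z w : C} (hz : z ∈ center C) (hw : w ∈ center C) :
    g * z * (h * w) * (g * z)⁻¹ * (h * w)⁻¹ = g * h * g⁻¹ * h⁻¹ := by
  have h1 := mem_center_iff.1 hz
  have h2 := mem_center_iff.1 hw
  calc g * z * (h * w) * (g * z)⁻¹ * (h * w)⁻¹ = g * (z * (h * w)) * z⁻¹ * g⁻¹ * (w⁻¹ * h⁻¹) := by group
    _ = g * ((h * w) * z) * z⁻¹ * g⁻¹ * (w⁻¹ * h⁻¹) := by rw [h1]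
    _ = g * h * (w * (g⁻¹ * w⁻¹)) * h⁻¹ := by group
    _ = g * h * ((g⁻¹ * w⁻¹) * w) * h⁻¹ := by rw [h2]
    _ = g * h * g⁻¹ * h⁻¹ := by group

namespace Data

variable {x t : G} {π : centralizer ({x} : Set G) →* ↥(_root_.commutator F)} (D : Data x t π)
include D

omit D in
theorem self_mem : x ∈ centralizer ({x} : Set G) := mem_centralizer_singleton_iff.2 rfl

omit D in
theorem center_of (k : centralizer ({x} : Set G)) (hk : (k : G) ∈ zpowers x) : k ∈ center (centralizer ({x} : Set G)) := by
  rw [mem_center_iff]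
  intro g
  apply Subtype.ext
  show (g : G) * k = k * g
  obtain ⟨i, hi⟩ := mem_zpowers_iff.1 hk
  rw [← hi]
  exact ((show Commute (g : G) x from mem_centralizer_singleton_iff.1 g.2).zpow_right i).eq

/-- a subgroup of `C(x)` which meets every coset of `⟨x⟩` contains `x` -/
theorem mem_of_cover (L : Subgroup (centralizer ({x} : Set G)))
    (hL : ∀ g : centralizer ({x} : Set G), ∃ l ∈ L, ((l⁻¹ * g : centralizer ({x} : Set G)) : G) ∈ zpowers x) :
    (⟨x, mem_centralizer_singleton_iff.2 rfl⟩ : centralizer ({x} : Set G)) ∈ L := by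
  have hcomm : _root_.commutator (centralizer ({x} : Set G)) ≤ L := by
    rw [_root_.commutator, Subgroup.commutator_le]
    intro a _ b _
    obtain ⟨a', ha', ha⟩ := hL a
    obtain ⟨b', hb', hb⟩ := hL b
    have h1 := comm_eq (g := a') (h := b') (center_of _ ha) (center_of _ hb)
    rw [mul_inv_cancel_left, mul_inv_cancel_left] at h1
    show a * b * a⁻¹ * b⁻¹ ∈ L
    rw [h1]
    exact L.mul_mem (L.mul_mem (L.mul_mem ha' hb') (L.inv_mem ha')) (L.inv_mem hb')
  exact hcomm (D.comm _)

/-- an element of the normaliser acting trivially on `C(x)/⟨x⟩` centralises `x` -/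
theorem mem_cent_of_triv (n : N x) (hn : ∀ g : centralizer ({x} : Set G), (g⁻¹ * cj D.ord n g :
    centralizer ({x} : Set G)).1 ∈ zpowers x) : (n : G) ∈ centralizer ({x} : Set G) := by
  rw [mem_cent_iff]
  -- the fixed points of `cj n`
  have hcomm : ∀ c ∈ _root_.commutator (centralizer ({x} : Set G)), cj D.ord n c = c := by
    have : _root_.commutator (centralizer ({x} : Set G)) ≤
        MonoidHom.eqLocus (cj D.ord n).toMonoidHom (MonoidHom.id _) := by
      rw [_root_.commutator, Subgroup.commutator_le]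
      intro a _ b _
      have h1 := comm_eq (g := a) (h := b) (center_of _ (hn a)) (center_of _ (hn b))
      rw [mul_inv_cancel_left, mul_inv_cancel_left] at h1
      show cj D.ord n (a * b * a⁻¹ * b⁻¹) = a * b * a⁻¹ * b⁻¹
      rw [map_mul, map_mul, map_mul, map_inv, map_inv]
      exact h1
    intro c hc
    exact this hc
  have h2 := hcomm _ (D.comm self_mem)
  exact congrArg Subtype.val h2

theorem cj_ker (n : N x) : π.ker.map (cj D.ord n).toMonoidHom = π.ker := by
  have key : ∀ m : N x, ∀ g ∈ π.ker, cj D.ord m g ∈ π.ker := by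
    intro m g hg
    rw [MonoidHom.mem_ker, D.ker] at hg ⊢
    rw [cj_coe]
    exact (mem_normalizer_iff.1 m.2 _).1 hg
  apply le_antisymm
  · rintro _ ⟨g, hg, rfl⟩
    exact key n g hg
  · intro g hg
    refine ⟨cj D.ord n⁻¹ g, key n⁻¹ g hg, Subtype.ext ?_⟩
    show (n : G) * ((n : G)⁻¹ * g * (n : G)⁻¹⁻¹) * (n : G)⁻¹ = g
    group

/-- the automorphism of `F'` induced by an element of the normaliser -/
noncomputable def au (n : N x) : MulAut ↥(_root_.commutator F) :=
  ((QuotientGroup.quotientKerEquivOfSurjective π D.surj).symm.trans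
    (QuotientGroup.congr π.ker π.ker (cj D.ord n) (D.cj_ker n))).trans
    (QuotientGroup.quotientKerEquivOfSurjective π D.surj)

theorem au_apply (n : N x) (g : centralizer ({x} : Set G)) : D.au n (π g) = π (cj D.ord n g) := by
  have h1 : (QuotientGroup.quotientKerEquivOfSurjective π D.surj).symm (π g) = QuotientGroup.mk g := by
    rw [MulEquiv.symm_apply_eq]
    rfl
  show (QuotientGroup.quotientKerEquivOfSurjective π D.surj) (QuotientGroup.congr π.ker π.ker (cj D.ord n)
    (D.cj_ker n) ((QuotientGroup.quotientKerEquivOfSurjective π D.surj).symm (π g))) = _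
  rw [h1]
  rfl

/-- the homomorphism `N → Aut F'` -/
noncomputable def auHom : N x →* MulAut ↥(_root_.commutator F) where
  toFun n := D.au n
  map_one' := by
    refine MulEquiv.ext fun f => ?_
    obtain ⟨g, rfl⟩ := D.surj f
    rw [D.au_apply]
    show _ = π g
    congr 1
    apply Subtype.ext
    show 1 * (g : G) * (1 : G)⁻¹ = g
    rw [one_mul, inv_one, mul_one]
  map_mul' n m := by
    refine MulEquiv.ext fun f => ?_
    obtain ⟨g, rfl⟩ := D.surj f
    rw [MulAut.mul_apply, D.au_apply, D.au_apply, D.au_apply]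
    congr 1
    apply Subtype.ext
    show (n : G) * m * g * ((n : G) * m)⁻¹ = n * (m * g * (m : G)⁻¹) * (n : G)⁻¹
    group

theorem ker_auHom (hc : center ↥(_root_.commutator F) = ⊥) : D.auHom.ker = (zpowers x).subgroupOf (N x) := by
  ext n
  rw [MonoidHom.mem_ker, mem_subgroupOf]
  constructor
  · intro h
    have h1 : ∀ g, π (cj D.ord n g) = π g := by
      intro g
      have := D.au_apply n g
      have h2 : D.au n = 1 := h
      rw [h2] at this
      exact this.symm
    have h2 : (n : G) ∈ centralizer ({x} : Set G) := D.mem_cent_of_triv n fun g => by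
      rw [← D.ker, map_mul, map_inv, h1, inv_mul_cancel]
    have h3 : π ⟨n, h2⟩ ∈ center ↥(_root_.commutator F) := by
      rw [mem_center_iff]
      intro f
      obtain ⟨g, rfl⟩ := D.surj f
      have h4 := h1 g
      have h5 : cj D.ord n g = ⟨n, h2⟩ * g * (⟨n, h2⟩ : centralizer ({x} : Set G))⁻¹ := rfl
      rw [h5, map_mul, map_mul, map_inv, mul_inv_eq_iff_eq_mul] at h4
      exact h4.symm
    rw [hc, mem_bot, D.ker] at h3
    exact h3
  · intro h
    refine MulEquiv.ext fun f => ?_
    obtain ⟨g, rfl⟩ := D.surj f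
    show D.au n (π g) = π g
    rw [D.au_apply]
    congr 1
    apply Subtype.ext
    rw [cj_coe]
    obtain ⟨i, hi⟩ := mem_zpowers_iff.1 h
    have : Commute (x ^ i) (g : G) :=
      ((show Commute (g : G) x from mem_centralizer_singleton_iff.1 g.2).zpow_right i).symm
    rw [← hi, this.eq, mul_inv_cancel_right]

theorem t_mem : t ∈ N x := mem_N_of (Or.inr D.inv)

theorem index_two : ((centralizer ({x} : Set G)).subgroupOf (N x)).index = 2 := by
  rw [index_eq_two_iff]
  refine ⟨⟨t, D.t_mem⟩, fun b => ?_⟩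
  rw [mem_subgroupOf, mem_subgroupOf, mem_cent_iff, mem_cent_iff]
  have e : ((b * ⟨t, D.t_mem⟩ : N x) : G) * x * ((b * ⟨t, D.t_mem⟩ : N x) : G)⁻¹ = ((b : G) * x * (b : G)⁻¹)⁻¹ := by
    show (b : G) * t * x * ((b : G) * t)⁻¹ = _
    calc (b : G) * t * x * ((b : G) * t)⁻¹ = b * (t * x * t⁻¹) * (b : G)⁻¹ := by group
      _ = b * x⁻¹ * (b : G)⁻¹ := by rw [D.inv]
      _ = _ := by group
  rw [e]
  rcases conj_cases D.ord b with h | h
  · rw [h]
    right
    exact ⟨rfl, fun h2 => ne_inv D.ord h2.symm⟩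
  · rw [h, inv_inv]
    left
    exact ⟨rfl, fun h2 => ne_inv D.ord h2.symm⟩

theorem card_X : Nat.card ↥(zpowers x) = 3 := by rw [Nat.card_zpowers, D.ord]

omit D in
theorem X_le : zpowers x ≤ N x := by
  rw [zpowers_le]
  exact cent_le (mem_centralizer_singleton_iff.2 rfl)

omit D in
theorem normal : ((zpowers x).subgroupOf (N x)).Normal := by
  constructor
  intro n hn g
  rw [mem_subgroupOf] at hn ⊢
  exact (mem_normalizer_iff.1 g.2 _).1 hn

theorem card_C [Finite G] : Nat.card (centralizer ({x} : Set G)) = Nat.card ↥(_root_.commutator F) * 3 := by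
  have h1 := Subgroup.card_eq_card_quotient_mul_card_subgroup π.ker
  rw [Nat.card_congr (QuotientGroup.quotientKerEquivOfSurjective π D.surj).toEquiv] at h1
  rw [h1]
  congr 1
  have hle : zpowers x ≤ centralizer ({x} : Set G) := by
    rw [zpowers_le]; exact mem_centralizer_singleton_iff.2 rfl
  have : π.ker = (zpowers x).subgroupOf (centralizer ({x} : Set G)) := by
    ext k
    rw [MonoidHom.mem_ker, D.ker, mem_subgroupOf]
  rw [this, Nat.card_congr (subgroupOfEquivOfLe hle).toEquiv, D.card_X]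

theorem card_quot [Finite G] (hi : (_root_.commutator F).index = 2) :
    Nat.card (N x ⧸ (zpowers x).subgroupOf (N x)) = Nat.card F := by
  have h1 := Subgroup.card_eq_card_quotient_mul_card_subgroup ((zpowers x).subgroupOf (N x))
  rw [Nat.card_congr (subgroupOfEquivOfLe X_le).toEquiv, D.card_X] at h1
  have h2 := Subgroup.card_mul_index ((centralizer ({x} : Set G)).subgroupOf (N x))
  rw [D.index_two, Nat.card_congr (subgroupOfEquivOfLe cent_le).toEquiv, D.card_C] at h2
  have h3 := Subgroup.card_mul_index (_root_.commutator F)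
  rw [hi] at h3
  rw [← h3]
  omega

/-- **The quotient.** -/
theorem quot_iso [Finite G] [Finite F] (hi : (_root_.commutator F).index = 2)
    (hc : center ↥(_root_.commutator F) = ⊥)
    (hconj : ∀ α : MulAut ↥(_root_.commutator F), ∃ g : F, ∀ y : ↥(_root_.commutator F), (α y : F) = g * y * g⁻¹) :
    ∃ _ : ((zpowers x).subgroupOf (N x)).Normal, Nonempty (N x ⧸ (zpowers x).subgroupOf (N x) ≃* F) := by
  have hn := normal (x := x)
  refine ⟨hn, ?_⟩
  let ψ : F →* MulAut ↥(_root_.commutator F) := MulAut.conjNormal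
  have hψ : Function.Surjective ψ := by
    intro α
    obtain ⟨g, hg⟩ := hconj α
    refine ⟨g, ?_⟩
    ext y
    rw [hg]
    exact MulAut.conjNormal_apply g y
  have hfin : Finite (MulAut ↥(_root_.commutator F)) := Finite.of_surjective ψ hψ
  have h1 : Nat.card (MulAut ↥(_root_.commutator F)) ≤ Nat.card F := Nat.card_le_card_of_surjective ψ hψ
  let e1 : N x ⧸ D.auHom.ker ≃* D.auHom.range := QuotientGroup.quotientKerEquivRange D.auHom
  have h2 : Nat.card D.auHom.range = Nat.card F := by
    rw [← Nat.card_congr e1.toEquiv, D.ker_auHom hc]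
    exact D.card_quot hi
  have h3 : Nat.card D.auHom.range ≤ Nat.card (MulAut ↥(_root_.commutator F)) := Subgroup.card_le_card_group _
  have h4 : Nat.card (MulAut ↥(_root_.commutator F)) = Nat.card F := le_antisymm h1 (h2 ▸ h3)
  have h5 : D.auHom.range = ⊤ := Subgroup.eq_top_of_card_eq _ (h2.trans h4.symm)
  have h6 : Function.Bijective ψ := (Nat.bijective_iff_surjective_and_card ψ).2 ⟨hψ, h4.symm⟩
  let e2 : F ≃* MulAut ↥(_root_.commutator F) := MulEquiv.ofBijective ψ h6
  let e3 : D.auHom.range ≃* MulAut ↥(_root_.commutator F) := (MulEquiv.subgroupCongr h5).trans topEquiv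
  exact ⟨(((QuotientGroup.quotientMulEquivOfEq (D.ker_auHom hc).symm).trans e1).trans e3).trans e2.symm⟩

theorem not_compl (L : Subgroup (N x)) : ¬ ((zpowers x).subgroupOf (N x)).IsComplement' L := by
  intro hL
  have hdec : ∀ g : N x, ∃ c ∈ (zpowers x).subgroupOf (N x), ∃ y ∈ L, c * y = g := by
    intro g
    obtain ⟨⟨⟨c, hc⟩, ⟨y, hy⟩⟩, hxy⟩ := hL.2 g
    exact ⟨c, hc, y, hy, hxy⟩
  have hx : x ∈ N x := X_le (mem_zpowers x)
  have h1 := D.mem_of_cover (L.comap (Subgroup.inclusion cent_le)) (by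
    intro g
    obtain ⟨c, hc, y, hy, hcy⟩ := hdec (Subgroup.inclusion cent_le g)
    have hc' : (c : G) ∈ zpowers x := hc
    have hcy' : (c : G) * y = g := congrArg Subtype.val hcy
    have hcC : (c : G) ∈ centralizer ({x} : Set G) := by
      have hle : zpowers x ≤ centralizer ({x} : Set G) := by
        rw [zpowers_le]; exact mem_centralizer_singleton_iff.2 rfl
      exact hle hc'
    have hyC : (y : G) ∈ centralizer ({x} : Set G) := by
      have : (y : G) = (c : G)⁻¹ * g := by rw [← hcy']; group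
      rw [this]
      exact mul_mem (inv_mem hcC) g.2
    refine ⟨⟨y, hyC⟩, ?_, ?_⟩
    · rw [mem_comap]
      have : Subgroup.inclusion cent_le (⟨y, hyC⟩ : centralizer ({x} : Set G)) = y := Subtype.ext rfl
      rw [this]
      exact hy
    · show (y : G)⁻¹ * g ∈ zpowers x
      rw [← hcy']
      have h3 : (⟨c, hcC⟩ : centralizer ({x} : Set G)) ∈ center (centralizer ({x} : Set G)) := center_of _ hc'
      have h4 : (y : G) * c = c * y := congrArg Subtype.val (mem_center_iff.1 h3 ⟨y, hyC⟩)
      rw [← h4, inv_mul_cancel_left]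
      exact hc')
  rw [mem_comap] at h1
  have h2 : (⟨x, hx⟩ : N x) ∈ L := h1
  have h3 : (⟨x, hx⟩ : N x) ∈ (zpowers x).subgroupOf (N x) := mem_zpowers x
  have h4 := Subgroup.disjoint_def.1 hL.disjoint h3 h2
  exact ne_one D.ord (congrArg Subtype.val h4)

/-- **The normaliser of `⟨x⟩`.** -/
theorem main [Finite G] [Finite F] (hi : (_root_.commutator F).index = 2)
    (hc : center ↥(_root_.commutator F) = ⊥)
    (hconj : ∀ α : MulAut ↥(_root_.commutator F), ∃ g : F, ∀ y : ↥(_root_.commutator F), (α y : F) = g * y * g⁻¹) :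
    ∃ (X N : Subgroup G), Nat.card ↥X = 3 ∧ N = Subgroup.normalizer (X : Set G) ∧
      (∃ _ : (X.subgroupOf N).Normal, Nonempty (↥N ⧸ X.subgroupOf N ≃* F)) ∧
      ∀ L : Subgroup ↥N, ¬ (X.subgroupOf N).IsComplement' L :=
  ⟨zpowers x, N x, D.card_X, rfl, D.quot_iso hi hc hconj, D.not_compl⟩

end Data

/-! ### Transport -/

theorem map_comm_le {A B : Type*} [Group A] [Group B] (f : A →* B) {x : A} (hx : x ∈ _root_.commutator A) :
    f x ∈ _root_.commutator B := by
  have h : (_root_.commutator A).map f ≤ _root_.commutator B := by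
    rw [_root_.commutator, Subgroup.map_commutator]
    exact Subgroup.commutator_mono le_top le_top
  exact h (Subgroup.mem_map_of_mem f hx)

theorem Data.exists_map {H : Type*} [Group H] {x t : G} {π : centralizer ({x} : Set G) →* ↥(_root_.commutator F)}
    (D : Data x t π) (e : G ≃* H) :
    ∃ π' : centralizer ({e x} : Set H) →* ↥(_root_.commutator F), Data (e x) (e t) π' := by
  have hj : ∀ g : centralizer ({e x} : Set H), e.symm (g : H) ∈ centralizer ({x} : Set G) := by
    intro g
    rw [mem_centralizer_singleton_iff]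
    apply e.injective
    rw [map_mul, map_mul, e.apply_symm_apply]
    exact mem_centralizer_singleton_iff.1 g.2
  have hi : ∀ g : centralizer ({x} : Set G), e (g : G) ∈ centralizer ({e x} : Set H) := by
    intro g
    rw [mem_centralizer_singleton_iff, ← map_mul, ← map_mul, mem_centralizer_singleton_iff.1 g.2]
  let j : centralizer ({e x} : Set H) →* centralizer ({x} : Set G) :=
    { toFun := fun g => ⟨e.symm (g : H), hj g⟩
      map_one' := Subtype.ext (map_one e.symm)
      map_mul' := fun a b => Subtype.ext (map_mul e.symm (a : H) (b : H)) }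
  let i : centralizer ({x} : Set G) →* centralizer ({e x} : Set H) :=
    { toFun := fun g => ⟨e (g : G), hi g⟩
      map_one' := Subtype.ext (map_one e)
      map_mul' := fun a b => Subtype.ext (map_mul e (a : G) (b : G)) }
  have hjs : Function.Surjective j := fun g => ⟨i g, Subtype.ext (e.symm_apply_apply (g : G))⟩
  refine ⟨π.comp j, ?_⟩
  exact
    { ord := by
        rw [← D.ord]
        exact orderOf_injective e.toMonoidHom e.injective x
      inv := by rw [← map_mul, ← map_inv, ← map_mul, D.inv, map_inv]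
      surj := D.surj.comp hjs
      ker := by
        intro k
        show π (j k) = 1 ↔ _
        rw [D.ker]
        show e.symm (k : H) ∈ zpowers x ↔ _
        rw [mem_zpowers_iff, mem_zpowers_iff]
        constructor
        · rintro ⟨n, hn⟩
          refine ⟨n, ?_⟩
          rw [← map_zpow, hn, e.apply_symm_apply]
        · rintro ⟨n, hn⟩
          refine ⟨n, ?_⟩
          rw [← hn, ← map_zpow, e.symm_apply_apply]
      comm := by
        intro h
        exact map_comm_le i (D.comm (mem_centralizer_singleton_iff.2 rfl)) }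

end Cfsg.Agent.H849.ThreeNorm
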