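import Cfsg.Agent.MonsterU.Chart
import Cfsg.Agent.MonsterU.Transfer

/-!
# Transport of charts along isomorphisms (helper849)

`large_congr`, `chart_congr`: a chart of an involution centraliser of `H` gives one of every group isomorphic to `H`.
-/

set_option autoImplicit false

open Cfsg
open Cfsg.Agent.MonsterU.Ch Cfsg.Agent.Co2Type.Quad
open Cfsg.Agent.MonsterU.Lam2 (L2)
open Cfsg.Spor (Co1)

namespace Cfsg.Agent.H849.Transport

variable {G H : Type*} [Group G] [Group H]

theorem large_congr (e : G ≃* H) {Q : Subgroup H} {z : H} (h : Large Q z) :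
    Large (Q.comap e.toMonoidHom) (e.symm z) where
  z_mem := by
    show e (e.symm z) ∈ Q
    rw [e.apply_symm_apply]; exact h.z_mem
  z_ne := fun hz => h.z_ne (by
    have := congrArg e hz
    rwa [e.apply_symm_apply, map_one] at this)
  z_sq := by rw [← map_mul, h.z_sq, map_one]
  comm_z := fun x hx => by
    apply e.injective
    rw [map_mul, map_mul, e.apply_symm_apply]
    exact h.comm_z _ hx
  conj_mem := by
    intro g hg x hx
    show e (g * x * g⁻¹) ∈ Q
    rw [map_mul, map_mul, map_inv]
    refine h.conj_mem (e g) ?_ (e x) hx
    have := congrArg e hg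
    rwa [map_mul, map_mul, e.apply_symm_apply] at this
  sq := by
    intro x hx
    rcases h.sq (e x) hx with h1 | h1
    · left; apply e.injective; rw [map_mul, h1, map_one]
    · right; apply e.injective; rw [map_mul, h1, e.apply_symm_apply]
  comm := by
    intro x hx y hy
    rcases h.comm (e x) hx (e y) hy with h1 | h1
    · left; apply e.injective; rw [map_mul, map_mul, h1]
    · right; apply e.injective; rw [map_mul, map_mul, map_mul, h1, e.apply_symm_apply]
  cent := by
    intro x hx hc
    rcases h.cent (e x) hx (fun y hy => by
      have h1 := hc (e.symm y) (by show e (e.symm y) ∈ Q; rwa [e.apply_symm_apply])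
      have h2 := congrArg e h1
      rwa [map_mul, map_mul, e.apply_symm_apply] at h2) with h1 | h1
    · left; apply e.injective; rw [h1, map_one]
    · right; apply e.injective; rw [h1, e.apply_symm_apply]
  self := by
    intro g hg hc
    show e g ∈ Q
    refine h.self (e g) ?_ fun y hy => ?_
    · have := congrArg e hg
      rwa [map_mul, map_mul, e.apply_symm_apply] at this
    · have h1 := hc (e.symm y) (by show e (e.symm y) ∈ Q; rwa [e.apply_symm_apply])
      have h2 := congrArg e h1
      rwa [map_mul, map_mul, e.apply_symm_apply] at h2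

/-- **Transport of a chart.** -/
theorem chart_congr (e : G ≃* H) {Q : Subgroup H} {z : H} {eta : H → L2}
    {pi : Subgroup.centralizer ({z} : Set H) →* Co1} (h : Chart Q z eta pi) :
    Chart (Q.comap e.toMonoidHom) (e.symm z) (fun x => eta (e x))
      (pi.comp (Cfsg.Agent.MonsterU.Transfer.centralizerEquiv e z).toMonoidHom) where
  large := large_congr e h.large
  fin := by
    have := h.fin
    exact Finite.of_injective (fun x : Q.comap e.toMonoidHom => (⟨e x, x.2⟩ : Q)) (fun a b hab =>
      Subtype.ext (e.injective (congrArg Subtype.val hab)))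
  eta_mul := by
    intro x hx y hy
    show eta (e (x * y)) = _
    rw [map_mul]
    exact h.eta_mul _ hx _ hy
  eta_zero := by
    intro x hx
    show eta (e x) = 0 ↔ _
    rw [h.eta_zero (e x) hx]
    constructor
    · rintro (h1 | h1)
      · left; apply e.injective; rw [h1, map_one]
      · right; apply e.injective; rw [h1, e.apply_symm_apply]
    · rintro (rfl | rfl)
      · left; rw [map_one]
      · right; rw [e.apply_symm_apply]
  eta_surj := by
    intro v
    obtain ⟨x, hx, hxv⟩ := h.eta_surj v
    exact ⟨e.symm x, by show e (e.symm x) ∈ Q; rwa [e.apply_symm_apply], by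
      show eta (e (e.symm x)) = v
      rwa [e.apply_symm_apply]⟩
  eta_conj := by
    intro c x hx
    show eta (e ((c : G) * x * (c : G)⁻¹)) = _
    rw [map_mul, map_mul, map_inv]
    exact h.eta_conj (Cfsg.Agent.MonsterU.Transfer.centralizerEquiv e z c) (e x) hx
  pi_surj := h.pi_surj.comp (Cfsg.Agent.MonsterU.Transfer.centralizerEquiv e z).surjective

end Cfsg.Agent.H849.Transport
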