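import Cfsg.Agent.MonsterU.Uncond
import Cfsg.Agent.MonsterU.ModelChart
import Cfsg.Agent.MonsterP.Equiv
import Cfsg.Agent.H849.Transport

/-!
# Base facts on the presented Monster (helper849)

`finite_M`, `simple_M`, `card_M`;
`exists_chart`: `Spor.Monster` has an involution `z` with a chart of `C(z) = 2^(1+24).Co1`.
-/

set_option autoImplicit false

open Cfsg
open Cfsg.Agent.MonsterU.Ch Cfsg.Agent.Co2Type.Quad
open Cfsg.Agent.MonsterU.Lam2 (L2)
open Cfsg.Spor (Co1)
open Cfsg.Agent.MonsterX Cfsg.Agent.MonsterX.Model Cfsg.Agent.MonsterX.MainPack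

namespace Cfsg.Agent.H849.MonsterBase

theorem finite_model : Finite ↥InstData.M.G :=
  Cfsg.Agent.MonsterX.MainBasic.G_finite Cfsg.Agent.MonsterU.Uncond.all.hO

theorem finite_M : Finite Spor.Monster := by
  have := finite_model
  obtain ⟨e⟩ := Cfsg.Agent.MonsterP.Equiv.equiv
  exact Finite.of_equiv _ e.symm.toEquiv

theorem simple_M : IsSimpleGroup Spor.Monster := Cfsg.Agent.MonsterP.Equiv.isM.1

/-- **The chart of the Monster.** -/
theorem exists_chart : ∃ (Q : Subgroup Spor.Monster) (z : Spor.Monster) (eta : Spor.Monster → L2)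
    (pi : Subgroup.centralizer ({z} : Set Spor.Monster) →* Co1), Chart Q z eta pi := by
  have A := Cfsg.Agent.MonsterU.Uncond.all
  obtain ⟨e⟩ := Cfsg.Agent.MonsterP.Equiv.equiv
  obtain ⟨eta, pi, h⟩ := Cfsg.Agent.MonsterU.ModelChart.chart A.hG A.hR A.hL A.hO A.hT
  exact ⟨_, _, _, _, Transport.chart_congr e h⟩

end Cfsg.Agent.H849.MonsterBase
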