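import Cfsg.Agent.H609.TH.Link
import Cfsg.Agent.OrdDiv.Table
import Cfsg.Agent.H436.MonLoc
import Cfsg.Agent.H332.MonUpper
import Cfsg.Agent.CpAut.TwoInnerB
import Cfsg.Agent.S1705

/-!
# S3938: the row of the Monster

`t` a 2A involution, `y` of order 47, `t y = y t`: `C(t)` is the only maximal subgroup containing `t y`.
-/

set_option autoImplicit false
set_option maxRecDepth 100000

namespace Cfsg.Agent.H849.SprM

open Subgroup Cfsg.Agent.OrdDiv Cfsg.Agent.H257.El Cfsg.Agent.H424.Spr Cfsg.Agent.H609.TH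
open Cfsg.Agent.H241.Mon (Gam)
open Cfsg.Agent.H291.SCAbs (om om_ne_bot)

universe u

/-! ### Involutory automorphisms fixing an element of order 47 -/

section

open scoped Pointwise

variable {N : Type*} [Group N]

theorem smul_conj_smul (α : MulAut N) (g : N) (P : Sylow 47 N) : α • (g • P) = (α g) • (α • P) := by
  rw [Sylow.smul_def, Sylow.smul_def, smul_smul, smul_smul]
  congr 1
  ext z
  simp [MulAut.mul_apply, MulAut.conj_apply]

theorem div_1104 : ∀ d ∈ Nat.divisors 1104, d % 47 = 1 → d = 1 ∨ d = 48 := by decide +kernel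

/-- an involutory automorphism of a simple group of order `|L₂(47)|` which fixes an element of order 47 is trivial -/
theorem aut_eq_one [Finite N] [IsSimpleGroup N] (hc : Nat.card N = 51888) {y : N} (hy : orderOf y = 47) (α : MulAut N)
    (hα : α * α = 1) (hαy : α y = y) : α = 1 := by
  classical
  have hF : Fact (Nat.Prime 47) := ⟨by norm_num⟩
  have hz : Nat.card (zpowers y) = 47 := by rw [Nat.card_zpowers, hy]
  have hpg : IsPGroup 47 (zpowers y) := IsPGroup.of_card (n := 1) (by rw [hz, pow_one])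
  have hidx : (zpowers y).index = 1104 := by
    have h1 := (zpowers y).card_mul_index
    rw [hz, hc] at h1
    omega
  let P0 : Sylow 47 N := hpg.toSylow (by rw [hidx]; norm_num)
  have hP0 : (P0 : Subgroup N) = zpowers y := rfl
  have hcP : ∀ P : Sylow 47 N, Nat.card (P : Subgroup N) = 47 := by
    intro P
    rw [P.card_eq_multiplicity, ← P0.card_eq_multiplicity, hP0, hz]
  -- the number of the Sylow subgroups
  have hnn : ¬ (P0 : Subgroup N).Normal := by
    intro h
    rcases h.eq_bot_or_eq_top with h1 | h1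
    · have := hcP P0
      rw [h1, card_bot] at this
      norm_num at this
    · have := hcP P0
      rw [h1, card_top, hc] at this
      norm_num at this
  have hX : Nat.card (Sylow 47 N) = 48 := by
    have h1 : Nat.card (Sylow 47 N) ∣ 1104 := by
      have := P0.card_dvd_index
      rwa [hP0, hidx] at this
    have h2 : Nat.card (Sylow 47 N) % 47 = 1 := card_sylow_modEq_one 47 N
    rcases div_1104 _ (Nat.mem_divisors.2 ⟨h1, by norm_num⟩) h2 with h3 | h3
    · exfalso
      have hsub : Subsingleton (Sylow 47 N) := (Nat.card_eq_one_iff_unique.1 h3).1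
      exact hnn (Sylow.normal_of_subsingleton P0)
    · exact h3
  -- `y` fixes only `P0`
  have hfix : ∀ P : Sylow 47 N, y • P = P → P = P0 := by
    intro P hP
    have h2 : y ∈ (P : Subgroup N) := by
      have h3 : y ∈ zpowers y ⊓ normalizer (P : Set N) := ⟨mem_zpowers y, Sylow.smul_eq_iff_mem_normalizer.1 hP⟩
      rw [hpg.inf_normalizer_sylow P] at h3
      exact h3.2
    apply Sylow.ext
    rw [hP0]
    symm
    refine eq_of_le_of_card_ge (by rwa [zpowers_le]) ?_
    rw [hcP, hz]
  let X := {P : Sylow 47 N // P ≠ P0}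
  have _ : Fintype X := Fintype.ofFinite X
  have _ : Fintype (Sylow 47 N) := Fintype.ofFinite _
  have hXc : Fintype.card X = 47 := by
    have h1 : Fintype.card X = Fintype.card (Sylow 47 N) - 1 := by
      have := Fintype.card_subtype_compl (fun P : Sylow 47 N => P = P0)
      rw [Fintype.card_subtype_eq] at this
      exact this
    rw [h1, ← Nat.card_eq_fintype_card, hX]
  have hα0 : α • P0 = P0 := by
    apply Sylow.ext
    rw [hP0]
    change α • (P0 : Subgroup N) = zpowers y
    rw [hP0]
    change (zpowers y).map α.toMonoidHom = zpowers y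
    rw [MonoidHom.map_zpowers]
    exact congrArg zpowers hαy
  have hαα : ∀ P : Sylow 47 N, α • (α • P) = P := by
    intro P
    rw [smul_smul, hα, one_smul]
  let σ : Equiv.Perm X :=
    { toFun := fun P => ⟨α • P.1, fun h => P.2 (by rw [← hαα P.1, h, hα0])⟩
      invFun := fun P => ⟨α • P.1, fun h => P.2 (by rw [← hαα P.1, h, hα0])⟩
      left_inv := fun P => Subtype.ext (hαα P.1)
      right_inv := fun P => Subtype.ext (hαα P.1) }
  have hF2 : Fact (Nat.Prime 2) := ⟨Nat.prime_two⟩
  obtain ⟨P1, hP1⟩ := Equiv.Perm.exists_fixed_point_of_prime (p := 2) (n := 1) (α := X) (by rw [hXc]; norm_num) (σ := σ)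
    (by
      rw [pow_one, pow_two]
      exact Equiv.ext fun P => Subtype.ext (hαα P.1))
  have hP1' : α • P1.1 = P1.1 := congrArg Subtype.val hP1
  -- `⟨y⟩` is transitive on the other Sylow subgroups
  have hy0 : ∀ i : ℕ, y ^ i • P0 = P0 := by
    intro i
    rw [Sylow.smul_eq_iff_mem_normalizer]
    exact le_normalizer (by rw [hP0]; exact npow_mem_zpowers y i)
  let f : Fin 47 → X := fun i => ⟨y ^ (i : ℕ) • P1.1, fun h => P1.2 (by
    have h1 : y ^ (i : ℕ) • P1.1 = y ^ (i : ℕ) • P0 := by rw [h, hy0]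
    exact smul_left_cancel _ h1)⟩
  have hpow : ∀ k : ℕ, ¬ 47 ∣ k → y ^ k • P1.1 ≠ P1.1 := by
    intro k hk h
    apply P1.2
    apply hfix
    rw [Sylow.smul_eq_iff_mem_normalizer] at h ⊢
    have hco : Nat.Coprime k (orderOf y) := by
      rw [hy, Nat.coprime_comm]
      exact (Nat.Prime.coprime_iff_not_dvd hF.out).2 hk
    obtain ⟨m, hm⟩ := exists_pow_eq_self_of_coprime hco
    rw [← hm]
    exact pow_mem h m
  have hf : Function.Injective f := by
    have key : ∀ i j : Fin 47, i ≤ j → f i = f j → i = j := by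
      intro i j hij h
      have h1 : y ^ (i : ℕ) • P1.1 = y ^ (j : ℕ) • P1.1 := congrArg Subtype.val h
      have h2 : y ^ ((j : ℕ) - i) • P1.1 = P1.1 := by
        apply smul_left_cancel (y ^ (i : ℕ))
        rw [smul_smul, ← pow_add, Nat.add_sub_cancel' (by exact_mod_cast hij), ← h1]
      by_contra hne
      have hlt : (i : ℕ) < j := lt_of_le_of_ne (by exact_mod_cast hij) fun h => hne (Fin.ext h)
      refine hpow _ (fun hd => ?_) h2
      have h3 := Nat.le_of_dvd (by omega) hd
      have := j.2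
      omega
    intro i j h
    rcases le_total i j with hij | hij
    · exact key i j hij h
    · exact (key j i hij h.symm).symm
  have hsurj : Function.Surjective f :=
    ((Fintype.bijective_iff_injective_and_card f).2 ⟨hf, by rw [hXc, Fintype.card_fin]⟩).2
  have hall : ∀ P : Sylow 47 N, α • P = P := by
    intro P
    by_cases h : P = P0
    · rw [h, hα0]
    · obtain ⟨i, hi⟩ := hsurj ⟨P, h⟩
      have hi' : y ^ (i : ℕ) • P1.1 = P := congrArg Subtype.val hi
      rw [← hi', smul_conj_smul, map_pow, hαy, hP1']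
  -- the kernel of the action
  have hker : (MulAction.toPermHom N (Sylow 47 N)).ker = ⊥ := by
    rcases (inferInstance : (MulAction.toPermHom N (Sylow 47 N)).ker.Normal).eq_bot_or_eq_top with h | h
    · exact h
    · exfalso
      apply hnn
      have h1 : normalizer ((P0 : Subgroup N) : Set N) = ⊤ := by
        rw [eq_top_iff]
        intro g _
        refine Sylow.smul_eq_iff_mem_normalizer.1 (?_ : g • P0 = P0)
        have h2 : g ∈ (MulAction.toPermHom N (Sylow 47 N)).ker := by rw [h]; trivial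
        exact congrArg (fun e : Equiv.Perm (Sylow 47 N) => e P0) h2
      exact normalizer_eq_top_iff.1 h1
  ext n
  rw [MulAut.one_apply]
  have h1 : n⁻¹ * α n ∈ (MulAction.toPermHom N (Sylow 47 N)).ker := by
    rw [MonoidHom.mem_ker]
    ext1 P
    change (n⁻¹ * α n) • P = P
    rw [mul_smul]
    have h2 : (α n) • P = n • P := by
      have h3 := smul_conj_smul α n P
      rw [hall P, hall (n • P)] at h3
      exact h3.symm
    rw [h2, inv_smul_smul]
  rw [hker, mem_bot, inv_mul_eq_one] at h1
  exact h1.symm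

end

/-- the proper overgroups, trivial core -/
theorem of_bot {T : Type u} [Group T] [Finite T] {n : ℕ} {l : List (ℕ × ℕ)} {r : ℕ} {K : Subgroup T}
    (S : SitP T n l r K) {O : Subgroup K} [hO : O.Normal] {N : Subgroup (K ⧸ O)} (h : Top K r O N) (hO1 : O = ⊥)
    {s : T} (hs : orderOf s = r) (hsK : s ∈ K) :
    K ≤ normalizer ((zpowers s : Subgroup T) : Set T) ∨ ∃ N' : Subgroup T, IsTop T n l r s K N' := by
  have hN := h.normal
  have hinj : Function.Injective (QuotientGroup.mk' O) := by
    rw [← MonoidHom.ker_eq_bot_iff, QuotientGroup.ker_mk', hO1]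
  set N₀ : Subgroup K := N.comap (QuotientGroup.mk' O) with hN₀
  have hN₀n : N₀.Normal := hN.comap _
  let e₀ : N₀ ≃* N := by
    refine MulEquiv.ofBijective ((QuotientGroup.mk' O).subgroupComap N) ⟨?_, ?_⟩
    · intro a b hab
      exact Subtype.ext (hinj (congrArg Subtype.val hab))
    · rintro ⟨z, hz⟩
      obtain ⟨y, rfl⟩ := QuotientGroup.mk'_surjective O z
      exact ⟨⟨y, hz⟩, rfl⟩
  let e₁ : N₀ ≃* N₀.map K.subtype := N₀.equivMapOfInjective K.subtype K.subtype_injective
  have hle : N₀.map K.subtype ≤ K := by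
    rintro _ ⟨y, -, rfl⟩
    exact y.2
  have hnorm : K ≤ normalizer ((N₀.map K.subtype : Subgroup T) : Set T) := by
    intro k hk
    rw [mem_normalizer_iff]
    intro z
    constructor
    · rintro ⟨w, hw, rfl⟩
      exact ⟨⟨k, hk⟩ * w * ⟨k, hk⟩⁻¹, hN₀n.conj_mem w hw _, rfl⟩
    · rintro ⟨w, hw, hwz⟩
      refine ⟨⟨k, hk⟩⁻¹ * w * ⟨k, hk⟩⁻¹⁻¹, hN₀n.conj_mem w hw _, ?_⟩
      change k⁻¹ * (K.subtype w) * (k⁻¹)⁻¹ = z
      rw [hwz]
      group
  have hcard : Nat.card (N₀.map K.subtype) = Nat.card N := by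
    rw [← Nat.card_congr e₁.toEquiv, Nat.card_congr e₀.toEquiv]
  have hmem : s ∈ N₀.map K.subtype := by
    refine ⟨⟨s, hsK⟩, ?_, rfl⟩
    change QuotientGroup.mk' O ⟨s, hsK⟩ ∈ N
    set z : K ⧸ O := QuotientGroup.mk' O ⟨s, hsK⟩ with hz
    have h1 : orderOf z ∣ r := by
      rw [hz, ← hs, ← Subgroup.orderOf_mk s hsK]
      exact orderOf_map_dvd _ _
    have h3 : orderOf (QuotientGroup.mk' N z) ∣ r := (orderOf_map_dvd _ _).trans h1
    rcases (Nat.dvd_prime S.prime).1 h3 with h4 | h4
    · rw [orderOf_eq_one_iff] at h4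
      exact (QuotientGroup.eq_one_iff z).1 h4
    · exfalso
      have h5 : r ∣ N.index := by
        rw [← h4, index_eq_card]
        exact orderOf_dvd_natCard _
      apply h.sq'
      rw [← Subgroup.card_mul_index N, pow_two]
      exact mul_dvd_mul h.dvd h5
  have hsim : IsSimpleGroup (N₀.map K.subtype) := by
    have := h.simple
    have e : N ≃* N₀.map K.subtype := e₀.symm.trans e₁
    have : Nontrivial (N₀.map K.subtype) := e.symm.toEquiv.nontrivial
    exact IsSimpleGroup.isSimpleGroup_of_surjective e.toMonoidHom e.surjective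
  by_cases hc : ∀ a b : N, a * b = b * a
  · left
    have h1 : Nat.card (N₀.map K.subtype) = r := hcard.trans (h.card_of_comm hc)
    have h3 : zpowers s = N₀.map K.subtype := by
      refine eq_of_le_of_card_ge (by rwa [zpowers_le]) ?_
      rw [h1, Nat.card_zpowers, hs]
    rw [h3]
    exact hnorm
  · right
    have hna : ¬ ∀ a b : N₀.map K.subtype, a * b = b * a := by
      intro h1
      apply hc
      intro a b
      have h3 := h1 ((e₀.symm.trans e₁) a) ((e₀.symm.trans e₁) b)
      rw [← map_mul, ← map_mul] at h3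
      exact (e₀.symm.trans e₁).injective h3
    refine ⟨_, hle, hnorm, hmem, hsim, hna, ?_⟩
    have hd : Nat.card (N₀.map K.subtype) ∣ n := by
      rw [← S.card]
      exact card_subgroup_dvd_card _
    obtain ⟨g, hg, hgr, hgc⟩ := exists_good S.tab (S.known _) hna S.valid hd
    refine ⟨g, List.mem_filter.2 ⟨hg, ?_⟩, hgr, hgc⟩
    unfold okG
    rw [Bool.and_eq_true, Bool.and_eq_true]
    refine ⟨⟨?_, ?_⟩, rfl⟩
    · have h3 : r ∣ Nat.card (N₀.map K.subtype) := by
        have := Subgroup.orderOf_dvd_natCard _ hmem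
        rwa [hs] at this
      rw [← hgc, Nat.mod_eq_zero_of_dvd h3]
      rfl
    · rw [← hgc]
      have h3 : Nat.card (N₀.map K.subtype) ≤ Nat.card K := Nat.le_of_dvd Nat.card_pos (card_dvd_of_le hle)
      have h4 := S.card_lt
      have h5 : Nat.card (N₀.map K.subtype) ≠ n := by omega
      simpa using h5

theorem map_conj {T : Type*} [Group T] {K : Subgroup T} (O : Subgroup K) [hO : O.Normal] {k : T} (hk : k ∈ K) {a : T}
    (ha : a ∈ O.map K.subtype) : k * a * k⁻¹ ∈ O.map K.subtype := by
  obtain ⟨w, hw, rfl⟩ := ha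
  exact ⟨⟨k, hk⟩ * w * ⟨k, hk⟩⁻¹, hO.conj_mem w hw _, rfl⟩

theorem map_normal {T : Type*} [Group T] {K : Subgroup T} (O : Subgroup K) [hO : O.Normal] {y : T} (hy : y ∈ K) :
    y ∈ normalizer ((O.map K.subtype : Subgroup T) : Set T) := by
  rw [mem_normalizer_iff]
  intro a
  refine ⟨map_conj O hy, fun ha => ?_⟩
  have h1 := map_conj O (inv_mem hy) ha
  have h2 : y⁻¹ * (y * a * y⁻¹) * y⁻¹⁻¹ = a := by group
  rwa [h2] at h1

theorem map_norm {T : Type*} [Group T] {K : Subgroup T} {P' : Subgroup K} {z : K} (hzP : z ∈ normalizer (P' : Set K)) :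
    (z : T) ∈ normalizer ((P'.map K.subtype : Subgroup T) : Set T) := by
  rw [mem_normalizer_iff]
  intro x
  constructor
  · rintro ⟨w, hw, rfl⟩
    exact ⟨z * w * z⁻¹, (mem_normalizer_iff.1 hzP w).1 hw, rfl⟩
  · rintro ⟨w, hw, hwx⟩
    have hxK : x ∈ K := by
      have h3 : x = (z : T)⁻¹ * (K.subtype w) * z := by rw [hwx]; group
      rw [h3]
      exact mul_mem (mul_mem (inv_mem z.2) w.2) z.2
    refine ⟨⟨x, hxK⟩, (mem_normalizer_iff.1 hzP _).2 ?_, rfl⟩
    have h4 : z * ⟨x, hxK⟩ * z⁻¹ = w := Subtype.ext hwx.symm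
    rw [h4]
    exact hw

/-! ### The Monster -/

def lM : List (ℕ × ℕ) := [(2, 46), (3, 20), (5, 9), (7, 6), (11, 2), (13, 3), (17, 1), (19, 1), (23, 1), (29, 1), (31, 1),
  (41, 1), (47, 1), (59, 1), (71, 1)]

def nM : ℕ := 808017424794512875886459904961710757005754368000000000

theorem valid_m : valid lM nM = true := by decide +kernel

theorem surv_m : ∀ g ∈ surv nM lM 47 [], g = Grp.psl 2 47 ∨ g = Grp.b := by decide +kernel

theorem ok_m : (lM.all fun x => (x.1 == 2) || (x.1 == 47) || okPow lM 47 x.1) = true := by decide +kernel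

theorem p47 : Nat.Prime 47 := by norm_num

theorem card_m : Nat.card Gam = nM := Cfsg.Agent.H241.Mon.card_G

theorem sq47 : ¬ 47 ^ 2 ∣ nM := by unfold nM; norm_num

theorem rank_m : PRankLE 2 15 Gam := by
  obtain ⟨e⟩ := Cfsg.Agent.MonsterP.Equiv.equiv
  intro A hA hA2
  have h := Cfsg.Agent.H332.MonUpper.monster_le (A.map e.symm.toMonoidHom) ?_ ?_
  · rwa [Subgroup.card_map_of_injective e.symm.injective] at h
  · refine ⟨⟨?_⟩⟩
    rintro ⟨_, a, ha, rfl⟩ ⟨_, b, hb, rfl⟩
    apply Subtype.ext
    show e.symm a * e.symm b = e.symm b * e.symm a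
    rw [← map_mul, ← map_mul]
    have h1 : a * b = b * a := congrArg Subtype.val (hA.is_comm.comm (⟨a, ha⟩ : A) ⟨b, hb⟩)
    rw [h1]
  · rintro _ ⟨a, ha, rfl⟩
    show (e.symm a) ^ 2 = 1
    rw [← map_pow, hA2 a ha, map_one]

/-- the base data -/
structure Base (t y : Gam) : Prop where
  ht : orderOf t = 2
  hy : orderOf y = 47
  hty : t * y = y * t
  ne : centralizer ({t} : Set Gam) ≠ ⊤
  triv : ∀ K : Subgroup Gam, K ≤ centralizer {t} → y ∈ normalizer (K : Set Gam) → ¬ 47 ∣ Nat.card K → K ≤ zpowers t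

theorem exists_base (known : Known.{0}) : ∃ t y : Gam, Base t y := by
  have hF : Fact (Nat.Prime 47) := ⟨p47⟩
  have hK : Cfsg.Agent.H995.CopEngine.AllKnown.{0} := fun S _ _ _ => known S
  obtain ⟨t, ht, -, hct, q, hq, hqk⟩ := Cfsg.Agent.H241.Mon.exists_cov
  obtain ⟨x1, hx1⟩ := exists_prime_orderOf_dvd_card' (G := centralizer ({t} : Set Gam)) 47 (by rw [hct]; norm_num)
  have hx1' : orderOf (x1 : Gam) = 47 := by rw [Subgroup.orderOf_coe, hx1]
  have hfin : Finite Spor.BabyMonster := CTwoTab.BInst.finite_B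
  have hqx : orderOf (q x1) = 47 := by
    refine orderOf_eq_prime (by rw [← map_pow, ← hx1, pow_orderOf_eq_one, map_one]) fun h => ?_
    rcases hqk _ h with h1 | h1
    · rw [h1, orderOf_one] at hx1
      norm_num at hx1
    · rw [h1, ht] at hx1'
      norm_num at hx1'
  refine ⟨t, x1, ht, hx1', (mem_centralizer_singleton_iff.1 x1.2).symm, ?_, ?_⟩
  · intro h
    have h1 := card_m
    rw [← card_top, ← h, hct] at h1
    norm_num [nM] at h1
  · intro K hKt hxK h47
    set K1 : Subgroup (centralizer ({t} : Set Gam)) := K.subgroupOf _ with hK1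
    have hc1 : Nat.card K1 = Nat.card K := Nat.card_congr (subgroupOfEquivOfLe hKt).toEquiv
    have hn1 : q x1 ∈ normalizer ((K1.map q : Subgroup Spor.BabyMonster) : Set Spor.BabyMonster) := by
      rw [mem_normalizer_iff]
      have hxx := mem_normalizer_iff.1 hxK
      intro b
      constructor
      · rintro ⟨c, hc, rfl⟩
        refine ⟨x1 * c * x1⁻¹, ?_, by rw [map_mul, map_mul, map_inv]⟩
        exact (hxx (c : Gam)).1 hc
      · rintro ⟨c, hc, hcb⟩
        refine ⟨x1⁻¹ * c * x1, ?_, by rw [map_mul, map_mul, map_inv, hcb]; group⟩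
        refine (hxx _).2 ?_
        change (x1 : Gam) * ((x1 : Gam)⁻¹ * c * x1) * (x1 : Gam)⁻¹ ∈ K
        have h3 : (x1 : Gam) * ((x1 : Gam)⁻¹ * c * x1) * (x1 : Gam)⁻¹ = c := by group
        rw [h3]
        exact hc
    have h471 : ¬ 47 ∣ Nat.card (K1.map q) := by
      intro h
      apply h47
      rw [← hc1]
      exact h.trans (card_map_dvd K1 q)
    have htr := Cfsg.Agent.H291.SCBaby.bHyp.triv hqx hn1 h471
    intro k hk
    have hk1 : (⟨k, hKt hk⟩ : centralizer ({t} : Set Gam)) ∈ K1 := hk
    have h2 : q ⟨k, hKt hk⟩ = 1 := by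
      have h3 := htr _ (mem_map_of_mem q hk1)
      have h4 : orderOf (q ⟨k, hKt hk⟩) ∣ 47 := by
        have h5 := Subgroup.orderOf_dvd_natCard _ (mem_centralizer_singleton_iff.2 h3.symm)
        rwa [Cfsg.Agent.H291.SCBaby.sc hK (q x1) hqx] at h5
      have h5 : orderOf (q ⟨k, hKt hk⟩) ∣ Nat.card (K1.map q) :=
        Subgroup.orderOf_dvd_natCard _ (mem_map_of_mem q hk1)
      rcases (Nat.dvd_prime p47).1 h4 with h6 | h6
      · exact orderOf_eq_one_iff.1 h6
      · rw [h6] at h5
        exact absurd h5 h471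
    rcases hqk _ h2 with h3 | h3
    · have h4 : k = 1 := congrArg Subtype.val h3
      rw [h4]
      exact one_mem _
    · have h4 : k = t := h3
      rw [h4]
      exact mem_zpowers t

section

variable {t y : Gam} (B : Base t y) (known : Known.{0})

include B

theorem Base.tt : t * t = 1 := by rw [← pow_two, ← B.ht, pow_orderOf_eq_one]

theorem Base.order : orderOf (t * y) = 94 := by
  rw [Commute.orderOf_mul_eq_mul_orderOf_of_coprime B.hty (by rw [B.ht, B.hy]; norm_num), B.ht, B.hy]

theorem Base.pow47 : (t * y) ^ 47 = t := by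
  have hc : Commute t y := B.hty
  rw [hc.mul_pow, show y ^ 47 = 1 by rw [← B.hy, pow_orderOf_eq_one], mul_one]
  have h2 : t ^ 2 = 1 := by rw [← B.ht, pow_orderOf_eq_one]
  calc t ^ 47 = (t ^ 2) ^ 23 * t := by rw [← pow_mul, ← pow_succ]
    _ = t := by rw [h2, one_pow, one_mul]

include known

theorem Base.cent_eq : centralizer ({y} : Set Gam) = zpowers (t * y) := by
  have hK : Cfsg.Agent.H995.CopEngine.AllKnown.{0} := fun S _ _ _ => known S
  have h1 : Nat.card (centralizer ({y} : Set Gam)) = 47 * 2 := Cfsg.Agent.H436.MonLoc.card47 hK B.hy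
  symm
  refine eq_of_le_of_card_ge ?_ ?_
  · rw [zpowers_le, mem_centralizer_singleton_iff]
    exact ((show Commute t y from B.hty).mul_left (Commute.refl y)).eq
  · rw [h1, Nat.card_zpowers, B.order]

/-- the only involution commuting with `y` -/
theorem Base.inv_unique {e : Gam} (he : orderOf e = 2) (hey : e * y = y * e) : e = t := by
  have h1 : e ∈ zpowers (t * y) := by
    rw [← B.cent_eq known]
    exact mem_centralizer_singleton_iff.2 hey
  rw [← mem_powers_iff_mem_zpowers] at h1
  obtain ⟨k, hk⟩ := h1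
  have hk' : (t * y) ^ k = e := hk
  have h2 : (t * y) ^ (k * 2) = 1 := by rw [pow_mul, hk', ← he, pow_orderOf_eq_one]
  have h3 : 94 ∣ k * 2 := by
    rw [← B.order]
    exact orderOf_dvd_of_pow_eq_one h2
  obtain ⟨m, rfl⟩ : 47 ∣ k := by omega
  rw [pow_mul, B.pow47] at hk'
  rcases Nat.even_or_odd m with ⟨j, rfl⟩ | ⟨j, rfl⟩
  · exfalso
    rw [← two_mul, pow_mul, show t ^ 2 = 1 by rw [← B.ht, pow_orderOf_eq_one], one_pow] at hk'
    rw [← hk', orderOf_one] at he
    norm_num at he
  · rw [pow_succ, pow_mul, show t ^ 2 = 1 by rw [← B.ht, pow_orderOf_eq_one], one_pow, one_mul] at hk'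
    exact hk'.symm

/-- the 2-subgroups normalised by `y` -/
theorem Base.two {R : Subgroup Gam} (hR : IsPGroup 2 R) (hyR : y ∈ normalizer (R : Set Gam)) : R ≤ zpowers t := by
  have hF2 : Fact (Nat.Prime 2) := ⟨Nat.prime_two⟩
  by_cases h : R = ⊥
  · rw [h]
    exact bot_le
  have h1 := om_ne_bot hR h
  have h2 : ∀ a ∈ om R, a ^ 2 = 1 := fun a ha => ha.2.2
  have h3 : IsMulCommutative (om R) := ⟨⟨fun a b => Subtype.ext (a.2.2.1 b b.2.1)⟩⟩
  have h4 : Nat.card (om R) ≤ 2 ^ 15 := rank_m (om R) h3 h2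
  have h5 : IsPGroup 2 (om R) := fun a => ⟨1, Subtype.ext (by
    rw [pow_one]
    exact h2 a a.2)⟩
  have h6 : y ∈ normalizer ((om R : Subgroup Gam) : Set Gam) := by
    have key : ∀ z : Gam, z ∈ normalizer (R : Set Gam) → ∀ a ∈ om R, z * a * z⁻¹ ∈ om R := by
      intro z hz a ha
      refine ⟨(mem_normalizer_iff.1 hz a).1 ha.1, fun b hb => ?_, ?_⟩
      · have hb' : z⁻¹ * b * z ∈ R := by
          have := (mem_normalizer_iff.1 (inv_mem hz) b).1 hb
          simpa using this
        have h7 := ha.2.1 _ hb'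
        calc z * a * z⁻¹ * b = z * (a * (z⁻¹ * b * z)) * z⁻¹ := by group
          _ = z * ((z⁻¹ * b * z) * a) * z⁻¹ := by rw [h7]
          _ = b * (z * a * z⁻¹) := by group
      · have h7 : (z * a * z⁻¹) ^ 2 = z * a ^ 2 * z⁻¹ := by
          rw [pow_two, pow_two]; group
        rw [h7, ha.2.2]; group
    rw [mem_normalizer_iff]
    intro a
    refine ⟨key y hyR a, fun ha => ?_⟩
    have h7 := key y⁻¹ (inv_mem hyR) _ ha
    have h8 : y⁻¹ * (y * a * y⁻¹) * y⁻¹⁻¹ = a := by group
    rwa [h8] at h7
  obtain ⟨k, hk⟩ := IsPGroup.iff_card.1 h5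
  have hk15 : k ≤ 15 := by
    rw [hk] at h4
    exact (Nat.pow_le_pow_iff_right (by norm_num)).1 h4
  have hk1 : 1 ≤ k := by
    by_contra hk0
    have : k = 0 := by omega
    subst this
    rw [pow_zero] at hk
    exact h1 (card_eq_one.1 hk)
  obtain ⟨e, heR, he, hye⟩ := exists_comm_of_normalizer p47 Nat.prime_two B.hy h5 h6 (by
    rw [hk]
    interval_cases k <;> norm_num)
  have het := B.inv_unique known he hye.symm
  rw [het] at heR
  refine B.triv R (fun a ha => ?_) hyR ?_
  · rw [mem_centralizer_singleton_iff]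
    exact (heR.2.1 a ha).symm
  · obtain ⟨j, hj⟩ := IsPGroup.iff_card.1 hR
    rw [hj]
    intro h7
    have h8 := (Nat.prime_dvd_prime_iff_eq p47 Nat.prime_two).1 (p47.dvd_of_dvd_pow h7)
    norm_num at h8

omit B in
/-- the odd primes -/
theorem odd_bot {z : Gam} (hz : orderOf z = 47) {q : ℕ} (hq : q.Prime) (hq2 : q ≠ 2) (hq47 : q ≠ 47)
    {R : Subgroup Gam} (hR : IsPGroup q R) (hzR : z ∈ normalizer (R : Set Gam)) : R = ⊥ := by
  have hq' : Fact q.Prime := ⟨hq⟩
  have hK : Cfsg.Agent.H995.CopEngine.AllKnown.{0} := fun S _ _ _ => known S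
  by_contra hne
  obtain ⟨b, hb⟩ := IsPGroup.iff_card.1 hR
  have hb1 : 1 ≤ b := by
    by_contra hb0
    have : b = 0 := by omega
    subst this
    rw [pow_zero] at hb
    exact hne (card_eq_one.1 hb)
  have hdn : q ^ b ∣ nM := by
    rw [← hb, ← card_m]
    exact card_subgroup_dvd_card R
  have hqn : q ∣ nM := (dvd_pow_self q (by omega)).trans hdn
  obtain ⟨k, hk, -⟩ := exists_pair valid_m hq le_rfl (by rwa [pow_one])
  have hok := ok_m
  rw [List.all_eq_true] at hok
  have h1 := hok (q, k) hk
  rw [Bool.or_eq_true, Bool.or_eq_true] at h1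
  rcases h1 with (h1 | h1) | h1
  · exact hq2 (by simpa using h1)
  · exact hq47 (by simpa using h1)
  · obtain ⟨w, -, hw, hzw⟩ := exists_comm_of_normalizer p47 hq hz hR hzR (by
      rw [hb]
      exact okPow_spec valid_m h1 hq hb1 hdn)
    have h2 : Nat.card (centralizer ({z} : Set Gam)) = 47 * 2 := Cfsg.Agent.H436.MonLoc.card47 hK hz
    have h3 := Subgroup.orderOf_dvd_natCard _ (mem_centralizer_singleton_iff.2 hzw.symm)
    rw [h2, hw] at h3
    rcases hq.dvd_mul.1 h3 with h4 | h4
    · exact hq47 ((Nat.prime_dvd_prime_iff_eq hq p47).1 h4)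
    · exact hq2 ((Nat.prime_dvd_prime_iff_eq hq Nat.prime_two).1 h4)

/-- an involution normalising a simple group at the top centralises it -/
theorem Base.cent_top {K N : Subgroup Gam} (h : IsTop Gam nM lM 47 y K N) (htK : t ∈ K) : ∀ n ∈ N, t * n = n * t := by
  have hK : Cfsg.Agent.H995.CopEngine.AllKnown.{0} := fun S _ _ _ => known S
  have hsim := h.simple
  have htN := mem_normalizer_iff.1 (h.le_norm htK)
  have htt := B.tt
  have hti : t⁻¹ = t := inv_eq_of_mul_eq_one_left htt
  let α : MulAut N :=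
    { toFun := fun n => ⟨t * n * t⁻¹, (htN n).1 n.2⟩
      invFun := fun n => ⟨t * n * t⁻¹, (htN n).1 n.2⟩
      left_inv := fun n => Subtype.ext (by
        change t * (t * (n : Gam) * t⁻¹) * t⁻¹ = n
        rw [hti]
        calc t * (t * (n : Gam) * t) * t = (t * t) * n * (t * t) := by group
          _ = n := by rw [htt, one_mul, mul_one])
      right_inv := fun n => Subtype.ext (by
        change t * (t * (n : Gam) * t⁻¹) * t⁻¹ = n
        rw [hti]
        calc t * (t * (n : Gam) * t) * t = (t * t) * n * (t * t) := by group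
          _ = n := by rw [htt, one_mul, mul_one])
      map_mul' := fun a b => Subtype.ext (by
        change t * ((a : Gam) * b) * t⁻¹ = (t * a * t⁻¹) * (t * b * t⁻¹)
        group) }
  have hα : ∀ n : N, ((α n : N) : Gam) = t * n * t⁻¹ := fun _ => rfl
  have hαα : α * α = 1 := by
    refine MulEquiv.ext fun n => Subtype.ext ?_
    change t * (t * (n : Gam) * t⁻¹) * t⁻¹ = n
    rw [hti]
    calc t * (t * (n : Gam) * t) * t = (t * t) * n * (t * t) := by group
      _ = n := by rw [htt, one_mul, mul_one]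
  have hyN : α ⟨y, h.mem⟩ = ⟨y, h.mem⟩ := by
    apply Subtype.ext
    rw [hα, B.hty]
    group
  have hy' : orderOf (⟨y, h.mem⟩ : N) = 47 := by rw [Subgroup.orderOf_mk, B.hy]
  have h1 : α = 1 := by
    obtain ⟨g, hg, hgr, hgc⟩ := h.real
    rcases surv_m g hg with rfl | rfl
    · refine aut_eq_one ?_ hy' α hαα hyN
      rw [hgc]
      decide +kernel
    · obtain ⟨e⟩ := hgr
      obtain ⟨b, hb⟩ := Cfsg.Agent.CpAut.TwoInner.inner_b (MulAut.congr e α)
      have hfin : Finite Spor.BabyMonster := CTwoTab.BInst.finite_B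
      have hsB : IsSimpleGroup Spor.BabyMonster := Cfsg.Agent.S1704.result.1
      -- `b` commutes with the image of `y`
      have hval : ∀ x : Spor.BabyMonster, e (α (e.symm x)) = b * x * b⁻¹ := fun x => by
        have h2 := congrArg (fun f : MulAut Spor.BabyMonster => f x) hb
        exact h2
      set w : Spor.BabyMonster := e ⟨y, h.mem⟩ with hw
      have hwo : orderOf w = 47 := by rw [hw, MulEquiv.orderOf_eq, hy']
      have hbw : b * w * b⁻¹ = w := by
        rw [← hval, hw, e.symm_apply_apply, hyN]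
      have hb2 : b * b ∈ center Spor.BabyMonster := by
        rw [mem_center_iff]
        intro x
        have h3 : b * (b * x * b⁻¹) * b⁻¹ = x := by
          rw [← hval x, ← hval, e.symm_apply_apply]
          have h4 : α (α (e.symm x)) = e.symm x := congrArg (fun f : MulAut N => f (e.symm x)) hαα
          rw [h4, e.apply_symm_apply]
        calc x * (b * b) = (b * (b * x * b⁻¹) * b⁻¹) * (b * b) := by rw [h3]
          _ = b * b * x := by group
      have hcen : center Spor.BabyMonster = ⊥ := by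
        rcases (inferInstance : (center Spor.BabyMonster).Normal).eq_bot_or_eq_top with h3 | h3
        · exact h3
        · exfalso
          have h4 : centralizer ({w} : Set Spor.BabyMonster) = ⊤ := by
            rw [eq_top_iff]
            intro x _
            rw [mem_centralizer_singleton_iff]
            have h5 : w ∈ center Spor.BabyMonster := by rw [h3]; trivial
            exact mem_center_iff.1 h5 x
          have h5 := Cfsg.Agent.H291.SCBaby.sc hK w hwo
          rw [h4, card_top, Cfsg.Agent.S1704.result.2] at h5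
          norm_num at h5
      rw [hcen, mem_bot] at hb2
      have hb47 : orderOf b ∣ 47 := by
        have h3 : b * w = w * b := mul_inv_eq_iff_eq_mul.1 hbw
        have h4 := Subgroup.orderOf_dvd_natCard _ (mem_centralizer_singleton_iff.2 h3)
        rwa [Cfsg.Agent.H291.SCBaby.sc hK w hwo] at h4
      have hb1 : b = 1 := by
        have h3 : orderOf b ∣ 2 := orderOf_dvd_of_pow_eq_one (by rw [pow_two, hb2])
        have h4 : orderOf b ∣ 1 := by
          have := Nat.dvd_gcd hb47 h3
          norm_num at this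
          rw [this, orderOf_one]
        exact orderOf_eq_one_iff.1 (Nat.dvd_one.1 h4)
      refine MulEquiv.ext fun n => ?_
      have h3 := hval (e n)
      rw [hb1, e.symm_apply_apply] at h3
      have h4 : α n = n := e.injective (by rw [h3]; group)
      rw [h4]
      rfl
  intro n hn
  have h2 : t * n * t⁻¹ = n := by
    have h3 := hα ⟨n, hn⟩
    rw [h1] at h3
    exact h3.symm
  exact mul_inv_eq_iff_eq_mul.1 h2

/-- **`C(t)` is the only maximal subgroup containing `t y`.** -/
theorem Base.le_cent {K : Subgroup Gam} (hK : K ≠ ⊤) (hs : t * y ∈ K) : K ≤ centralizer ({t} : Set Gam) := by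
  have hF : Fact (Nat.Prime 47) := ⟨p47⟩
  have htK : t ∈ K := by
    rw [← B.pow47]
    exact pow_mem hs 47
  have hyK : y ∈ K := by
    have h1 : y = t⁻¹ * (t * y) := by group
    rw [h1]
    exact mul_mem (inv_mem htK) hs
  have h47K : 47 ∣ Nat.card K := by
    rw [← B.hy]
    exact Subgroup.orderOf_dvd_natCard K hyK
  have S : SitP Gam nM lM 47 K := ⟨table, known, card_m, valid_m, p47, sq47, hK, h47K⟩
  obtain ⟨O, hO, N, h⟩ := S.exists_top
  -- conjugates of `t`
  have key : ∀ k : Gam, (k * t * k⁻¹) * y = y * (k * t * k⁻¹) → k ∈ centralizer ({t} : Set Gam) := by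
    intro k hk
    have h1 : orderOf (k * t * k⁻¹) = 2 := by
      rw [← MulAut.conj_apply, MulEquiv.orderOf_eq, B.ht]
    have h2 := B.inv_unique known h1 hk
    rw [mem_centralizer_singleton_iff]
    exact mul_inv_eq_iff_eq_mul.1 h2
  -- the core is a 2-group
  have hO2 : ∀ q : ℕ, q.Prime → q ∣ Nat.card O → q = 2 := by
    intro q hq hqd
    have hq' : Fact q.Prime := ⟨hq⟩
    by_contra hq2
    have hq47 : q ≠ 47 := by
      rintro rfl
      exact h.core hqd
    obtain ⟨P⟩ : Nonempty (Sylow q O) := inferInstance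
    obtain ⟨z, hz, hzP⟩ := exists_normalizer h.dvdR O h.core P
    set P' : Subgroup K := (P : Subgroup O).map O.subtype with hP'
    have hPp : IsPGroup q P' := P.isPGroup'.map _
    have h1 := odd_bot known (z := (z : Gam)) (by rw [Subgroup.orderOf_coe]; exact hz) hq hq2 hq47
      (R := P'.map K.subtype) (hPp.map _) (map_norm hzP)
    have h5 : Nat.card P = 1 := by
      have h6 : Nat.card (P'.map K.subtype) = Nat.card P := by
        rw [card_map_of_injective K.subtype_injective, hP', card_map_of_injective O.subtype_injective]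
      rw [← h6, h1, card_bot]
    have h7 : q ∣ Nat.card P := P.dvd_card_of_dvd_card hqd
    rw [h5] at h7
    exact hq.one_lt.ne' (Nat.dvd_one.1 h7)
  have hOp : IsPGroup 2 O := by
    have h1 : Nat.card O = 2 ^ (Nat.card O).primeFactorsList.length :=
      Nat.eq_prime_pow_of_unique_prime_dvd Nat.card_pos.ne' fun {d} hd hdd => hO2 d hd hdd
    exact IsPGroup.of_card h1
  have hnormO : ∀ k ∈ K, ∀ a : Gam, a ∈ O.map K.subtype → k * a * k⁻¹ ∈ O.map K.subtype := fun k hk a ha =>
    map_conj O hk ha
  have hOle : O.map K.subtype ≤ zpowers t := by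
    exact B.two known (hOp.map _) (map_normal O hyK)
  by_cases hO1 : O = ⊥
  · rcases of_bot S h hO1 B.hy hyK with h1 | ⟨N', hN'⟩
    · intro k hk
      apply key
      have h2 := mem_normalizer_iff.1 (h1 hk)
      have h3 : k⁻¹ * y * k ∈ zpowers y := by
        rw [h2]
        have h4 : k * (k⁻¹ * y * k) * k⁻¹ = y := by group
        rw [h4]
        exact mem_zpowers y
      obtain ⟨m, hm⟩ := mem_zpowers_iff.1 h3
      have h4 : t * (k⁻¹ * y * k) = (k⁻¹ * y * k) * t := by
        rw [← hm]
        exact ((show Commute t y from B.hty).zpow_right m).eq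
      calc (k * t * k⁻¹) * y = k * (t * (k⁻¹ * y * k)) * k⁻¹ := by group
        _ = k * ((k⁻¹ * y * k) * t) * k⁻¹ := by rw [h4]
        _ = y * (k * t * k⁻¹) := by group
    · intro k hk
      apply key
      have h2 := mem_normalizer_iff.1 (hN'.le_norm hk)
      have h3 : k⁻¹ * y * k ∈ N' := by
        rw [h2]
        have h4 : k * (k⁻¹ * y * k) * k⁻¹ = y := by group
        rw [h4]
        exact hN'.mem
      have h4 := B.cent_top known hN' htK _ h3
      calc (k * t * k⁻¹) * y = k * (t * (k⁻¹ * y * k)) * k⁻¹ := by group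
        _ = k * ((k⁻¹ * y * k) * t) * k⁻¹ := by rw [h4]
        _ = y * (k * t * k⁻¹) := by group
  · have htO : t ∈ O.map K.subtype := by
      have h1 : O.map K.subtype ≠ ⊥ := by
        rw [Ne, map_eq_bot_iff_of_injective _ K.subtype_injective]
        exact hO1
      have h2 : O.map K.subtype = zpowers t := by
        refine eq_of_le_of_card_ge hOle ?_
        have h3 : Nat.card (O.map K.subtype) ∣ 2 := by
          have := card_dvd_of_le hOle
          rwa [Nat.card_zpowers, B.ht] at this
        rcases (Nat.dvd_prime Nat.prime_two).1 h3 with h4 | h4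
        · exact absurd (card_eq_one.1 h4) h1
        · rw [h4, Nat.card_zpowers, B.ht]
      rw [h2]
      exact mem_zpowers t
    intro k hk
    apply key
    have h1 := hOle (hnormO k hk t htO)
    obtain ⟨m, hm⟩ := mem_zpowers_iff.1 h1
    rw [← hm]
    exact ((show Commute t y from B.hty).zpow_left m).eq

end

theorem spr_gam (known : Known.{0}) : Spr Gam := by
  obtain ⟨t, y, B⟩ := exists_base known
  obtain ⟨e⟩ := Cfsg.Agent.MonsterP.Equiv.equiv
  have hs : IsSimpleGroup Gam := by
    have h1 : IsSimpleGroup Spor.Monster := Cfsg.Agent.S1705.result.1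
    have : Nontrivial Gam := e.symm.toEquiv.nontrivial
    exact IsSimpleGroup.isSimpleGroup_of_surjective e.toMonoidHom e.surjective
  refine spr_of_one (exists_not_comm card_m ?_) (s := t * y) (M := centralizer ({t} : Set Gam)) B.ne
    fun K hsK hK => B.le_cent known hK hsK
  unfold nM
  norm_num

/-- **The row of the Monster (S3938).** -/
theorem spr_m (known : Known.{0}) {T : Type} [Group T] [Finite T] (h : Spor.IsoM T) : Spr T := by
  obtain ⟨e⟩ := h
  obtain ⟨f⟩ := Cfsg.Agent.MonsterP.Equiv.equiv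
  exact Spr.congr (e.trans f).symm (spr_gam known)

end Cfsg.Agent.H849.SprM
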