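import Cfsg.Agent.H670.Palfy.Defs
import Cfsg.Agent.Lib.Zsigmondy

/-!
# Zsigmondy primes for the degree graph of solvable groups (task 1036)
-/

set_option autoImplicit false

namespace Cfsg.Agent.H849.FactNum

open Finset

/-- `r` is a prime such that `p` has order `d` modulo `r`. -/
def Prim (p d r : ℕ) : Prop := r.Prime ∧ ∀ j, r ∣ p ^ j - 1 ↔ d ∣ j

theorem Prim.uniq {p d e r : ℕ} (h1 : Prim p d r) (h2 : Prim p e r) : d = e :=
  Nat.dvd_antisymm ((h1.2 e).1 ((h2.2 e).2 dvd_rfl)) ((h2.2 d).1 ((h1.2 d).2 dvd_rfl))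

/-- the factor -/
def fac (p n m : ℕ) : ℕ := (p ^ n - 1) / (p ^ m - 1)

theorem fac_mul {p n m : ℕ} (h : m ∣ n) : fac p n m * (p ^ m - 1) = p ^ n - 1 := by
  obtain ⟨c, rfl⟩ := h
  unfold fac
  apply Nat.div_mul_cancel
  rw [pow_mul]
  exact Nat.sub_one_dvd_pow_sub_one _ _

theorem fac_sum {p n m c : ℕ} (hp : 2 ≤ p) (hm : m ≠ 0) (h : n = m * c) :
    fac p n m = ∑ i ∈ range c, (p ^ m) ^ i := by
  subst h
  unfold fac
  rw [Nat.geomSum_eq, ← pow_mul]
  exact le_trans hp (Nat.le_self_pow hm p)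

theorem not_one {p n m z k : ℕ} (hp : 2 ≤ p) (hm : m ≠ 0) (hz : z.Prime) (hk : 0 < k) (h : n = m * z ^ k)
    (h1 : fac p n m ≡ 1 [MOD z]) : ¬ p ^ m ≡ 1 [MOD z] := by
  intro h2
  rw [fac_sum hp hm h] at h1
  have h3 : ∑ i ∈ range (z ^ k), (p ^ m) ^ i ≡ ∑ i ∈ range (z ^ k), 1 [MOD z] := by
    apply Nat.ModEq.sum
    intro i _
    have := h2.pow i
    rwa [one_pow] at this
  rw [sum_const, card_range, smul_eq_mul, mul_one] at h3
  have h4 : z ^ k ≡ 0 [MOD z] := (Nat.modEq_zero_iff_dvd).2 (dvd_pow_self z hk.ne')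
  have h5 := (h1.symm.trans h3).trans h4
  have h6 := (Nat.modEq_zero_iff_dvd).1 h5
  exact hz.one_lt.ne' (Nat.dvd_one.1 h6)

theorem factNum : Cfsg.Agent.H670.Palfy.FactNum := by
  intro p n B W m k hp hn hBW hB hW hZ
  have hp2 : 2 ≤ p := hp.two_le
  have hm0 : ∀ z ∈ B, m z ≠ 0 := by
    intro z hz h0
    have := (hZ z hz).2.1
    rw [h0, zero_mul] at this
    omega
  have hmn : ∀ z ∈ B, m z ∣ n := fun z hz => ⟨_, (hZ z hz).2.1⟩
  have hBp : ∀ z ∈ B, z.Prime ∧ z ∣ n := fun z hz => hW z (hBW hz)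
  have hno : ∀ z ∈ B, ¬ p ^ m z ≡ 1 [MOD z] := fun z hz =>
    not_one hp2 (hm0 z hz) (hBp z hz).1 (hZ z hz).1 (hZ z hz).2.1 (hZ z hz).2.2
  -- 2 ∈ B implies p = 2
  have hb2 : 2 ∈ B → p = 2 := by
    intro h
    by_contra hne
    have hodd : Odd p := hp.odd_of_ne_two hne
    apply hno 2 h
    have h1 : Odd (p ^ m 2) := hodd.pow
    rw [Nat.ModEq, Nat.odd_iff.1 h1]
  -- 3 ∈ B and p = 2 imply n odd
  have hb3 : 3 ∈ B → p = 2 → Odd n := by
    intro h hp2
    have h1 : Odd (m 3) := by
      by_contra hne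
      rw [Nat.not_odd_iff_even] at hne
      obtain ⟨c, hc⟩ := hne
      apply hno 3 h
      rw [hp2, hc, ← two_mul, pow_mul]
      have : (2 ^ 2 : ℕ) ≡ 1 [MOD 3] := by decide
      have := this.pow c
      rwa [one_pow] at this
    rw [(hZ 3 h).2.1]
    exact h1.mul (Odd.pow (by decide))
  -- a set of primes
  have hsub2 : ∀ a b : ℕ, B ⊆ {a, b} → a ∈ B ∧ b ∈ B := by
    intro a b h
    have hc : B = {a, b} := Finset.eq_of_subset_of_card_le h (le_trans (Finset.card_le_two) hB)
    rw [hc]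
    simp
  have hdm : ∀ w ∈ insert 1 W, w ∣ n ∧ (w = 1 ∨ w.Prime) := by
    intro w hw
    rw [Finset.mem_insert] at hw
    rcases hw with rfl | hw
    · exact ⟨one_dvd _, Or.inl rfl⟩
    · exact ⟨(hW w hw).2, Or.inr (hW w hw).1⟩
  have hprim : ∀ w ∈ insert 1 W, ∀ z, z.Prime → z ∣ w → z = w := by
    intro w hw z hz hzw
    rcases (hdm w hw).2 with rfl | h
    · exact absurd (Nat.dvd_one.1 hzw) hz.one_lt.ne'
    · exact (Nat.prime_dvd_prime_iff_eq hz h).1 hzw
  -- n ≠ w
  have hnw : ∀ w ∈ insert 1 W, n ≠ w := by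
    intro w hw h
    have : B ⊆ {w, w} := by
      intro z hz
      have h1 := (hBp z hz)
      rw [h] at h1
      have := hprim w hw z h1.1 h1.2
      simp [this]
    rw [Finset.pair_eq_singleton] at this
    have := Finset.card_le_card this
    rw [Finset.card_singleton] at this
    omega
  -- n = 2 w
  have hn2w : ∀ w ∈ insert 1 W, n = 2 * w → 2 ∈ B ∧ w ∈ B := by
    intro w hw h
    apply hsub2
    intro z hz
    have h1 := hBp z hz
    rw [h] at h1
    rcases (Nat.Prime.dvd_mul h1.1).1 h1.2 with h2 | h2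
    · rw [Nat.prime_dvd_prime_iff_eq h1.1 Nat.prime_two] at h2
      simp [h2]
    · have := hprim w hw z h1.1 h2
      simp [this]
  -- n = 6 w
  have hn6w : ∀ w ∈ insert 1 W, p = 2 → n = 6 * w → 2 ∈ B ∧ w ∈ B ∧ w ≠ 3 := by
    intro w hw hp2 h
    have h3 : 3 ∉ B := by
      intro h3
      have := hb3 h3 hp2
      rw [h] at this
      rw [← Nat.not_even_iff_odd] at this
      exact this ⟨3 * w, by ring⟩
    have := hsub2 2 w ?_
    · exact ⟨this.1, this.2, fun h => h3 (h ▸ this.2)⟩
    intro z hz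
    have h1 := hBp z hz
    rw [h] at h1
    rcases (Nat.Prime.dvd_mul h1.1).1 h1.2 with h2 | h2
    · have h4 : z ∣ 2 * 3 := h2
      rcases (Nat.Prime.dvd_mul h1.1).1 h4 with h2 | h2
      · rw [Nat.prime_dvd_prime_iff_eq h1.1 Nat.prime_two] at h2
        simp [h2]
      · rw [Nat.prime_dvd_prime_iff_eq h1.1 Nat.prime_three] at h2
        exact absurd (h2 ▸ hz) h3
    · have := hprim w hw z h1.1 h2
      simp [this]
  -- the primes
  have key : ∀ w ∈ insert 1 W, ∃ d r, Prim p d r ∧ r ∣ ∏ z ∈ B, fac p n (m z) ∧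
      ((d * w = n) ∨ (p = 2 ∧ n = 6 * w ∧ d = 2 ∧ w ∈ B)) := by
    intro w hw
    obtain ⟨⟨d, hd⟩, hw1⟩ := hdm w hw
    have hw0 : 0 < w := by
      rcases hw1 with rfl | h
      · exact one_pos
      · exact h.pos
    have hd0 : d ≠ 0 := by
      rintro rfl
      rw [mul_zero] at hd
      omega
    have hd1 : d ≠ 1 := by
      rintro rfl
      rw [mul_one] at hd
      exact hnw w hw hd
    by_cases he : p = 2 ∧ d = 6
    · obtain ⟨rfl, rfl⟩ := he
      have h6 : n = 6 * w := by rw [hd, mul_comm]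
      obtain ⟨h2B, hwB, hw3⟩ := hn6w w hw rfl h6
      have hp3 : Prim 2 2 3 := by
        refine ⟨Nat.prime_three, fun j => ?_⟩
        have h4 : ∀ c, 4 ^ c % 3 = 1 := fun c => by rw [Nat.pow_mod]; simp
        constructor
        · intro h
          by_contra hne
          rw [← even_iff_two_dvd, Nat.not_even_iff_odd] at hne
          obtain ⟨c, rfl⟩ := hne
          rw [pow_succ, pow_mul] at h
          have := h4 c
          have h5 : (2 ^ 2 : ℕ) = 4 := rfl
          rw [h5] at h
          have : 0 < 4 ^ c := by positivity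
          omega
        · rintro ⟨c, rfl⟩
          rw [pow_mul]
          have := h4 c
          have h5 : (2 ^ 2 : ℕ) = 4 := rfl
          rw [h5]
          have : 0 < 4 ^ c := by positivity
          omega
      refine ⟨2, 3, hp3, ?_, Or.inr ⟨rfl, h6, rfl, hwB⟩⟩
      refine dvd_trans ?_ (Finset.dvd_prod_of_mem _ h2B)
      have hwp := (hBp w hwB).1
      have hw2 : w ≠ 2 := by
        rintro rfl
        -- n = 12, B ⊆ {2}
        have : B ⊆ {2, 2} := by
          intro z hz
          have h1 := hBp z hz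
          rw [h6] at h1
          have h4 : z ∣ 2 * (2 * 3) := h1.2
          rcases (Nat.Prime.dvd_mul h1.1).1 h4 with h2 | h2
          · rw [Nat.prime_dvd_prime_iff_eq h1.1 Nat.prime_two] at h2
            simp [h2]
          rcases (Nat.Prime.dvd_mul h1.1).1 h2 with h2 | h2
          · rw [Nat.prime_dvd_prime_iff_eq h1.1 Nat.prime_two] at h2
            simp [h2]
          · rw [Nat.prime_dvd_prime_iff_eq h1.1 Nat.prime_three] at h2
            have := hb3 (h2 ▸ hz) rfl
            rw [h6] at this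
            exact absurd this (by decide)
        rw [Finset.pair_eq_singleton] at this
        have := Finset.card_le_card this
        rw [Finset.card_singleton] at this
        omega
      have hwo : Odd w := hwp.odd_of_ne_two hw2
      have hm2 : Odd (m 2) := by
        have h1 := (hZ 2 h2B).2.1
        obtain ⟨c, hc⟩ := Nat.exists_eq_succ_of_ne_zero (hZ 2 h2B).1.ne'
        rw [hc, pow_succ, h6] at h1
        have h2 : 3 * w = m 2 * 2 ^ c := by
          have : 2 * (3 * w) = 2 * (m 2 * 2 ^ c) := by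
            linarith
          exact Nat.eq_of_mul_eq_mul_left (by norm_num) this
        have h3 : Odd (3 * w) := Odd.mul (by decide) hwo
        rw [h2] at h3
        exact (Nat.odd_mul.1 h3).1
      have h3 : 3 ∣ 2 ^ n - 1 := (hp3.2 n).2 (by rw [h6]; exact ⟨3 * w, by ring⟩)
      have h4 : ¬ 3 ∣ 2 ^ m 2 - 1 := by
        rw [hp3.2, ← even_iff_two_dvd, Nat.not_even_iff_odd]
        exact hm2
      rw [← fac_mul (hmn 2 h2B)] at h3
      exact ((Nat.Prime.dvd_mul Nat.prime_three).1 h3).resolve_right h4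
    · have hd2 : d = 2 → ¬ ∃ j, p + 1 = 2 ^ j := by
        rintro rfl ⟨j, hj⟩
        have := (hn2w w hw (by rw [hd, mul_comm])).1
        have := hb2 this
        subst this
        have hj2 : 2 + 1 = 2 ^ j := hj
        rcases j with _ | _ | j
        · omega
        · omega
        · have : 2 ^ (j + 1 + 1) = 4 * 2 ^ j := by ring
          omega
      obtain ⟨r, hr, hrd, -, -⟩ := Lib.Zsigmondy.exists_primitive hp2 (by omega : 2 ≤ d) hd2 he
      obtain ⟨z, hz, hzw⟩ : ∃ z ∈ B, z ≠ w := by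
        by_contra hcon
        push Not at hcon
        have : B ⊆ {w} := fun z hz => by
          rw [Finset.mem_singleton]
          exact hcon z hz
        have := Finset.card_le_card this
        rw [Finset.card_singleton] at this
        omega
      refine ⟨d, r, ⟨hr, hrd⟩, ?_, Or.inl (by rw [hd, mul_comm])⟩
      refine dvd_trans ?_ (Finset.dvd_prod_of_mem _ hz)
      have h3 : r ∣ p ^ n - 1 := (hrd n).2 ⟨w, by rw [hd, mul_comm]⟩
      have h4 : ¬ r ∣ p ^ m z - 1 := by
        rw [hrd]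
        rintro ⟨j, hj⟩
        have h5 := (hZ z hz).2.1
        rw [hj, hd, mul_assoc, mul_comm w d] at h5
        have h6 := Nat.eq_of_mul_eq_mul_left (Nat.pos_of_ne_zero hd0) h5
        have h7 : z ∣ w := by
          rw [h6]
          exact Dvd.dvd.mul_left (dvd_pow_self z (hZ z hz).1.ne') _
        exact hzw (hprim w hw z (hBp z hz).1 h7)
      rw [← fac_mul (hmn z hz)] at h3
      exact ((Nat.Prime.dvd_mul hr).1 h3).resolve_right h4
  choose! D R h1 h2 h3 using key
  have hW1 : (1 : ℕ) ∉ W := fun h => Nat.not_prime_one (hW 1 h).1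
  have hprod0 : ∏ z ∈ B, fac p n (m z) ≠ 0 := by
    rw [Finset.prod_ne_zero_iff]
    intro z hz h0
    have h4 := fac_mul (p := p) (hmn z hz)
    rw [h0, zero_mul] at h4
    have : 2 ^ 1 ≤ p ^ n := le_trans (Nat.pow_le_pow_left hp2 1) (Nat.pow_le_pow_right (by omega) hn)
    omega
  rw [← Finset.card_insert_of_notMem hW1]
  apply Finset.card_le_card_of_injOn R
  · intro w hw
    rw [Finset.mem_coe, Nat.mem_primeFactors]
    exact ⟨(h1 w hw).1, h2 w hw, hprod0⟩
  · intro a ha b hb hab
    have hab' : R a = R b := hab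
    have h4 := h1 a ha
    rw [hab'] at h4
    have h5 : D a = D b := h4.uniq (h1 b hb)
    have hexc : ∀ a ∈ insert 1 W, ∀ b ∈ insert 1 W, p = 2 → n = 6 * a → a ∈ B → 2 * b = n → a = b := by
      intro a ha b hb hp2 hn6 haB hb2
      exfalso
      have hb3 : b = 3 * a := by omega
      have ha' := hprim b hb 3 Nat.prime_three ⟨a, hb3⟩
      have : a = 1 := by omega
      exact Nat.not_prime_one (this ▸ (hBp a haB).1)
    rcases h3 a ha with h6 | ⟨h6, h7, h8, h9⟩ <;> rcases h3 b hb with h10 | ⟨h10, h11, h12, h13⟩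
    · rw [h5] at h6
      have hD0 : 0 < D b := by
        rcases Nat.eq_zero_or_pos (D b) with h | h
        · rw [h, zero_mul] at h10
          omega
        · exact h
      exact Nat.eq_of_mul_eq_mul_left hD0 (h6.trans h10.symm)
    · rw [h5, h12] at h6
      exact (hexc b hb a ha h10 h11 h13 h6).symm
    · rw [← h5, h8] at h10
      exact hexc a ha b hb h6 h7 h9 h10
    · omega

end Cfsg.Agent.H849.FactNum
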