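import Mathlib

/-!
# The normaliser of a four-group all of whose involutions are fused (helper849)

`four_group`: `t`, `a` commuting involutions, `π : C(t, a) → X` onto with kernel `{1, t, a, t a}`, elements `u`, `v`
inducing `t ↔ a` and `a ↔ t a`, and `t ∈ C(t, a)'`. Then `E = ⟨t, a⟩`, `N = N(E)`, `K = C(E)` satisfy `K / E ≅ X`,
`N / K ≅ S₃` and `E` has no complement in `K`.
-/

set_option autoImplicit false

namespace Cfsg.Agent.H849.FourGroup

open Subgroup

variable {G X : Type*} [Group G] [Group X]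

/-- The data. -/
structure Data (t a u v : G) (π : centralizer ({t, a} : Set G) →* X) : Prop where
  tt : t * t = 1
  aa : a * a = 1
  ta : t * a = a * t
  t1 : t ≠ 1
  a1 : a ≠ 1
  ne : t ≠ a
  surj : Function.Surjective π
  ker : ∀ k : centralizer ({t, a} : Set G), π k = 1 ↔ (k : G) = 1 ∨ (k : G) = t ∨ (k : G) = a ∨ (k : G) = t * a
  ut : u * t * u⁻¹ = a
  ua : u * a * u⁻¹ = t
  vt : v * t * v⁻¹ = t
  va : v * a * v⁻¹ = t * a
  comm : ∀ h : t ∈ centralizer ({t, a} : Set G), (⟨t, h⟩ : centralizer ({t, a} : Set G)) ∈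
    commutator (centralizer ({t, a} : Set G))

theorem mem_cent {t a g : G} : g ∈ centralizer ({t, a} : Set G) ↔ g * t = t * g ∧ g * a = a * g := by
  rw [Subgroup.mem_centralizer_iff]
  constructor
  · intro h
    exact ⟨(h _ (Or.inl rfl)).symm, (h _ (Or.inr rfl)).symm⟩
  · rintro ⟨h1, h2⟩ x (rfl | rfl)
    · exact h1.symm
    · exact h2.symm

namespace Data

variable {t a u v : G} {π : centralizer ({t, a} : Set G) →* X} (D : Data t a u v π)
include D

theorem ta1 : t * a ≠ 1 := fun h => D.ne (by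
  calc t = t * (a * a) := by rw [D.aa, mul_one]
    _ = t * a * a := by group
    _ = a := by rw [h, one_mul])

theorem tta : t * (t * a) = a := by rw [← mul_assoc, D.tt, one_mul]
theorem ata : a * (t * a) = t := by rw [D.ta, ← mul_assoc, D.aa, one_mul]
theorem taa : t * a * a = t := by rw [mul_assoc, D.aa, mul_one]
theorem tat : t * a * t = a := by rw [D.ta, mul_assoc, D.tt, mul_one]
theorem tata : t * a * (t * a) = 1 := by rw [← mul_assoc, D.tat, D.aa]

/-- the four-group -/
def E : Subgroup G where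
  carrier := {x | x = 1 ∨ x = t ∨ x = a ∨ x = t * a}
  one_mem' := Or.inl rfl
  mul_mem' := by
    rintro x y (rfl | rfl | rfl | rfl) (rfl | rfl | rfl | rfl)
    · left; rw [mul_one]
    · right; left; rw [one_mul]
    · right; right; left; rw [one_mul]
    · right; right; right; rw [one_mul]
    · right; left; rw [mul_one]
    · left; exact D.tt
    · right; right; right; rfl
    · right; right; left; exact D.tta
    · right; right; left; rw [mul_one]
    · right; right; right; exact D.ta.symm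
    · left; exact D.aa
    · right; left; exact D.ata
    · right; right; right; rw [mul_one]
    · right; right; left; exact D.tat
    · right; left; exact D.taa
    · left; exact D.tata
  inv_mem' := by
    rintro x (rfl | rfl | rfl | rfl)
    · left; rw [inv_one]
    · right; left; exact inv_eq_of_mul_eq_one_left D.tt
    · right; right; left; exact inv_eq_of_mul_eq_one_left D.aa
    · right; right; right; exact inv_eq_of_mul_eq_one_left D.tata

theorem mem_E {x : G} : x ∈ D.E ↔ x = 1 ∨ x = t ∨ x = a ∨ x = t * a := Iff.rfl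

theorem t_mem : t ∈ D.E := Or.inr (Or.inl rfl)
theorem a_mem : a ∈ D.E := Or.inr (Or.inr (Or.inl rfl))
theorem ta_mem : t * a ∈ D.E := Or.inr (Or.inr (Or.inr rfl))

/-- the elements `≠ 1` -/
def pt (t a : G) : Fin 3 → G := ![t, a, t * a]

omit D in
theorem pt_inj (D : Data t a u v π) : Function.Injective (pt t a) := by
  have h1 : t ≠ t * a := fun h => D.a1 (mul_left_cancel (a := t) (by rw [mul_one]; exact h.symm))
  have h2 : a ≠ t * a := fun h => D.t1 (mul_right_cancel (b := a) (by rw [one_mul]; exact h.symm))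
  intro i j hij
  fin_cases i <;> fin_cases j
  all_goals first
    | rfl
    | (exfalso; simp only [pt] at hij; first
        | exact D.ne hij | exact D.ne hij.symm | exact h1 hij | exact h1 hij.symm | exact h2 hij | exact h2 hij.symm)

theorem exists_pt {x : G} (hx : x ∈ D.E) (h1 : x ≠ 1) : ∃ i, pt t a i = x := by
  rcases hx with rfl | rfl | rfl | rfl
  · exact absurd rfl h1
  · exact ⟨0, rfl⟩
  · exact ⟨1, rfl⟩
  · exact ⟨2, rfl⟩

theorem pt_mem (i : Fin 3) : pt t a i ∈ D.E := by
  fin_cases i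
  · exact D.t_mem
  · exact D.a_mem
  · exact D.ta_mem

theorem pt_ne (i : Fin 3) : pt t a i ≠ 1 := by
  fin_cases i
  · exact D.t1
  · exact D.a1
  · exact D.ta1

/-- the normaliser -/
abbrev N : Subgroup G := Subgroup.normalizer (D.E : Set G)

theorem conj_ex (n : D.N) (i : Fin 3) : ∃ j, pt t a j = (n : G) * pt t a i * (n : G)⁻¹ := by
  refine D.exists_pt ((Subgroup.mem_normalizer_iff.1 n.2 _).1 (D.pt_mem i)) fun h => D.pt_ne i ?_
  calc pt t a i = (n : G)⁻¹ * ((n : G) * pt t a i * (n : G)⁻¹) * n := by group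
    _ = 1 := by rw [h]; group

/-- the action on the three involutions -/
noncomputable def act (n : D.N) (i : Fin 3) : Fin 3 := (D.conj_ex n i).choose

theorem act_spec (n : D.N) (i : Fin 3) : pt t a (D.act n i) = (n : G) * pt t a i * (n : G)⁻¹ :=
  (D.conj_ex n i).choose_spec

/-- the action -/
@[reducible] noncomputable def mulAction : MulAction D.N (Fin 3) where
  smul n i := D.act n i
  one_smul i := D.pt_inj (by
    show pt t a (D.act 1 i) = _
    rw [D.act_spec]
    show 1 * pt t a i * (1 : G)⁻¹ = pt t a i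
    rw [one_mul, inv_one, mul_one])
  mul_smul n m i := D.pt_inj (by
    show pt t a (D.act (n * m) i) = pt t a (D.act n (D.act m i))
    rw [D.act_spec, D.act_spec, D.act_spec]
    show ((n : G) * m) * pt t a i * ((n : G) * m)⁻¹ = _
    group)

/-- the homomorphism onto `S₃` -/
noncomputable def toPerm : D.N →* Equiv.Perm (Fin 3) :=
  letI := D.mulAction
  MulAction.toPermHom D.N (Fin 3)

theorem toPerm_apply (n : D.N) (i : Fin 3) : D.toPerm n i = D.act n i := rfl

theorem toPerm_spec (n : D.N) (i : Fin 3) : pt t a (D.toPerm n i) = (n : G) * pt t a i * (n : G)⁻¹ :=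
  D.act_spec n i

theorem toPerm_eq_one (n : D.N) : D.toPerm n = 1 ↔ (n : G) ∈ centralizer ({t, a} : Set G) := by
  rw [mem_cent]
  constructor
  · intro h
    have h0 := D.toPerm_spec n 0
    have h1 := D.toPerm_spec n 1
    rw [h] at h0 h1
    change t = (n : G) * t * (n : G)⁻¹ at h0
    change a = (n : G) * a * (n : G)⁻¹ at h1
    constructor
    · calc (n : G) * t = (n : G) * t * (n : G)⁻¹ * n := by group
        _ = t * n := by rw [← h0]
    · calc (n : G) * a = (n : G) * a * (n : G)⁻¹ * n := by group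
        _ = a * n := by rw [← h1]
  · rintro ⟨h0, h1⟩
    ext i
    have key : D.toPerm n i = i := by
      apply D.pt_inj
      rw [D.toPerm_spec]
      fin_cases i
      · show (n : G) * t * (n : G)⁻¹ = t
        rw [h0, mul_inv_cancel_right]
      · show (n : G) * a * (n : G)⁻¹ = a
        rw [h1, mul_inv_cancel_right]
      · show (n : G) * (t * a) * (n : G)⁻¹ = t * a
        calc (n : G) * (t * a) * (n : G)⁻¹ = ((n : G) * t) * a * (n : G)⁻¹ := by group
          _ = t * ((n : G) * a) * (n : G)⁻¹ := by rw [h0]; group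
          _ = t * a := by rw [h1]; group
    rw [key]; rfl

theorem conj_uta : u * (t * a) * u⁻¹ = t * a := by
  calc u * (t * a) * u⁻¹ = (u * t * u⁻¹) * (u * a * u⁻¹) := by group
    _ = a * t := by rw [D.ut, D.ua]
    _ = t * a := D.ta.symm

theorem conj_vta : v * (t * a) * v⁻¹ = a := by
  calc v * (t * a) * v⁻¹ = (v * t * v⁻¹) * (v * a * v⁻¹) := by group
    _ = t * (t * a) := by rw [D.vt, D.va]
    _ = a := D.tta

omit D in
theorem mem_normalizer_of {E : Subgroup G} {n : G} (h1 : ∀ x ∈ E, n * x * n⁻¹ ∈ E) (h2 : ∀ x ∈ E, n⁻¹ * x * n ∈ E) :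
    n ∈ Subgroup.normalizer (E : Set G) := by
  rw [Subgroup.mem_normalizer_iff]
  intro x
  refine ⟨h1 x, fun hx => ?_⟩
  have := h2 _ hx
  have e : n⁻¹ * (n * x * n⁻¹) * n = x := by group
  rwa [e] at this

omit D in
theorem conj_inv {n x y : G} (h : n * x * n⁻¹ = y) : n⁻¹ * y * n = x := by rw [← h]; group

theorem u_mem : u ∈ D.N := by
  refine mem_normalizer_of ?_ ?_
  · rintro x (rfl | rfl | rfl | rfl)
    · left; group
    · rw [D.ut]; exact D.a_mem
    · rw [D.ua]; exact D.t_mem
    · rw [D.conj_uta]; exact D.ta_mem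
  · rintro x (rfl | rfl | rfl | rfl)
    · left; group
    · rw [conj_inv D.ua]; exact D.a_mem
    · rw [conj_inv D.ut]; exact D.t_mem
    · rw [conj_inv D.conj_uta]; exact D.ta_mem

theorem v_mem : v ∈ D.N := by
  refine mem_normalizer_of ?_ ?_
  · rintro x (rfl | rfl | rfl | rfl)
    · left; group
    · rw [D.vt]; exact D.t_mem
    · rw [D.va]; exact D.ta_mem
    · rw [D.conj_vta]; exact D.a_mem
  · rintro x (rfl | rfl | rfl | rfl)
    · left; group
    · rw [conj_inv D.vt]; exact D.t_mem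
    · rw [conj_inv D.conj_vta]; exact D.ta_mem
    · rw [conj_inv D.va]; exact D.a_mem

theorem toPerm_u : D.toPerm ⟨u, D.u_mem⟩ = Equiv.swap 0 1 := by
  ext i
  congr 1
  apply D.pt_inj
  rw [D.toPerm_spec]
  fin_cases i
  · exact D.ut
  · exact D.ua
  · exact D.conj_uta

theorem toPerm_v : D.toPerm ⟨v, D.v_mem⟩ = Equiv.swap 1 2 := by
  ext i
  congr 1
  apply D.pt_inj
  rw [D.toPerm_spec]
  fin_cases i
  · exact D.vt
  · exact D.va
  · exact D.conj_vta

omit D in
theorem perm_cases : ∀ σ : Equiv.Perm (Fin 3), σ = 1 ∨ σ = Equiv.swap 0 1 ∨ σ = Equiv.swap 1 2 ∨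
    σ = Equiv.swap 0 1 * Equiv.swap 1 2 ∨ σ = Equiv.swap 1 2 * Equiv.swap 0 1 ∨
    σ = Equiv.swap 0 1 * Equiv.swap 1 2 * Equiv.swap 0 1 := by decide

theorem toPerm_surjective : Function.Surjective D.toPerm := by
  intro σ
  rcases perm_cases σ with rfl | rfl | rfl | rfl | rfl | rfl
  · exact ⟨1, map_one _⟩
  · exact ⟨_, D.toPerm_u⟩
  · exact ⟨_, D.toPerm_v⟩
  · exact ⟨⟨u, D.u_mem⟩ * ⟨v, D.v_mem⟩, by rw [map_mul, D.toPerm_u, D.toPerm_v]⟩
  · exact ⟨⟨v, D.v_mem⟩ * ⟨u, D.u_mem⟩, by rw [map_mul, D.toPerm_u, D.toPerm_v]⟩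
  · exact ⟨⟨u, D.u_mem⟩ * ⟨v, D.v_mem⟩ * ⟨u, D.u_mem⟩, by
      rw [map_mul, map_mul, D.toPerm_u, D.toPerm_v]⟩

theorem cent_le : centralizer ({t, a} : Set G) ≤ D.N := by
  intro g hg
  rw [mem_cent] at hg
  have h0 : g * t * g⁻¹ = t := by rw [hg.1, mul_inv_cancel_right]
  have h1 : g * a * g⁻¹ = a := by rw [hg.2, mul_inv_cancel_right]
  have h2 : g * (t * a) * g⁻¹ = t * a := by
    calc g * (t * a) * g⁻¹ = (g * t * g⁻¹) * (g * a * g⁻¹) := by group
      _ = t * a := by rw [h0, h1]
  refine mem_normalizer_of ?_ ?_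
  · rintro x (rfl | rfl | rfl | rfl)
    · left; group
    · rw [h0]; exact D.t_mem
    · rw [h1]; exact D.a_mem
    · rw [h2]; exact D.ta_mem
  · rintro x (rfl | rfl | rfl | rfl)
    · left; group
    · rw [conj_inv h0]; exact D.t_mem
    · rw [conj_inv h1]; exact D.a_mem
    · rw [conj_inv h2]; exact D.ta_mem

theorem E_le_cent : D.E ≤ centralizer ({t, a} : Set G) := by
  rintro x (rfl | rfl | rfl | rfl)
  · exact one_mem _
  · exact mem_cent.2 ⟨rfl, D.ta⟩
  · exact mem_cent.2 ⟨D.ta.symm, rfl⟩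
  · exact mem_cent.2 ⟨by rw [D.tat, D.tta], by rw [D.taa, D.ata]⟩

theorem isKleinFour : IsKleinFour D.E where
  card_four := by
    have h1 : t ≠ t * a := fun h => D.a1 (mul_left_cancel (a := t) (by rw [mul_one]; exact h.symm))
    have h2 : a ≠ t * a := fun h => D.t1 (mul_right_cancel (b := a) (by rw [one_mul]; exact h.symm))
    have h3 := D.t1
    have h4 := D.a1
    have h5 := D.ta1
    have h6 := D.ne
    classical
    have hset : ((D.E : Subgroup G) : Set G) = ((({1, t, a, t * a} : Finset G)) : Set G) := by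
      ext x
      simp only [Finset.coe_insert, Finset.coe_singleton, Set.mem_insert_iff, Set.mem_singleton_iff]
      exact Iff.rfl
    have h7 : Nat.card D.E = ((D.E : Subgroup G) : Set G).ncard := rfl
    rw [h7, hset, Set.ncard_coe_finset]
    rw [Finset.card_insert_of_notMem, Finset.card_insert_of_notMem, Finset.card_pair h2]
    · simp only [Finset.mem_insert, Finset.mem_singleton, not_or]
      exact ⟨h6, h1⟩
    · simp only [Finset.mem_insert, Finset.mem_singleton, not_or]
      exact ⟨h3.symm, h4.symm, h5.symm⟩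
  exponent_two := by
    have hsq : ∀ x : D.E, x ^ 2 = 1 := by
      rintro ⟨x, hx⟩
      apply Subtype.ext
      show x ^ 2 = 1
      rw [pow_two]
      rcases hx with rfl | rfl | rfl | rfl
      · rw [one_mul]
      · exact D.tt
      · exact D.aa
      · exact D.tata
    have h1 : Monoid.exponent D.E ∣ 2 := Monoid.exponent_dvd_of_forall_pow_eq_one hsq
    rcases (Nat.dvd_prime Nat.prime_two).1 h1 with h | h
    · exfalso
      have h2 := Monoid.pow_exponent_eq_one (⟨t, D.t_mem⟩ : D.E)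
      rw [h, pow_one] at h2
      exact D.t1 (congrArg Subtype.val h2)
    · exact h

/-- the centraliser in the normaliser -/
abbrev K : Subgroup D.N := (centralizer ({t, a} : Set G)).subgroupOf D.N

theorem ker_toPerm : D.toPerm.ker = D.K := by
  ext n
  rw [MonoidHom.mem_ker, D.toPerm_eq_one, Subgroup.mem_subgroupOf]

/-- the projection of `K` -/
noncomputable def pr : D.K →* X := π.comp (Subgroup.subgroupOfEquivOfLe D.cent_le).toMonoidHom

theorem pr_apply (k : D.K) (h : ((k : D.N) : G) ∈ centralizer ({t, a} : Set G)) :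
    D.pr k = π ⟨((k : D.N) : G), h⟩ := rfl

theorem pr_surjective : Function.Surjective D.pr :=
  D.surj.comp (Subgroup.subgroupOfEquivOfLe D.cent_le).surjective

theorem pr_ker : D.pr.ker = (D.E.subgroupOf D.N).subgroupOf D.K := by
  ext k
  rw [MonoidHom.mem_ker, Subgroup.mem_subgroupOf, Subgroup.mem_subgroupOf, D.pr_apply k k.2, D.ker, D.mem_E]

theorem not_compl (L : Subgroup D.K) : ¬ ((D.E.subgroupOf D.N).subgroupOf D.K).IsComplement' L := by
  intro hL
  have hcen : ∀ c ∈ (D.E.subgroupOf D.N).subgroupOf D.K, ∀ x : D.K, c * x = x * c := by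
    intro c hc x
    apply Subtype.ext; apply Subtype.ext
    have hc' : ((c : D.N) : G) ∈ D.E := hc
    have hx : ((x : D.N) : G) * t = t * ((x : D.N) : G) ∧ ((x : D.N) : G) * a = a * ((x : D.N) : G) :=
      mem_cent.1 x.2
    show ((c : D.N) : G) * ((x : D.N) : G) = ((x : D.N) : G) * ((c : D.N) : G)
    rcases hc' with h | h | h | h
    · rw [h, one_mul, mul_one]
    · rw [h]; exact hx.1.symm
    · rw [h]; exact hx.2.symm
    · rw [h]
      calc t * a * ((x : D.N) : G) = t * (a * ((x : D.N) : G)) := by group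
        _ = (t * ((x : D.N) : G)) * a := by rw [← hx.2]; group
        _ = ((x : D.N) : G) * (t * a) := by rw [← hx.1]; group
  have hdec : ∀ x : D.K, ∃ c ∈ (D.E.subgroupOf D.N).subgroupOf D.K, ∃ y ∈ L, c * y = x := by
    intro x
    obtain ⟨⟨⟨c, hc⟩, ⟨y, hy⟩⟩, hxy⟩ := hL.2 x
    exact ⟨c, hc, y, hy, hxy⟩
  have hcomm : commutator D.K ≤ L := by
    rw [_root_.commutator, Subgroup.commutator_le]
    intro x _ y _
    obtain ⟨c, hc, x', hx', rfl⟩ := hdec x
    obtain ⟨d, hd, y', hy', rfl⟩ := hdec y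
    have : c * x' * (d * y') * (c * x')⁻¹ * (d * y')⁻¹ = x' * y' * x'⁻¹ * y'⁻¹ := by
      have e1 := hcen c hc
      have e2 := hcen d hd
      calc c * x' * (d * y') * (c * x')⁻¹ * (d * y')⁻¹
          = c * x' * (d * y') * x'⁻¹ * (c⁻¹ * y'⁻¹) * d⁻¹ := by group
        _ = c * (x' * (d * y') * x'⁻¹) * (y'⁻¹ * c⁻¹) * d⁻¹ := by
            have : c⁻¹ * y'⁻¹ = y'⁻¹ * c⁻¹ := by
              rw [← mul_inv_rev, ← mul_inv_rev, e1]
            rw [this]; group
        _ = (x' * (d * y') * x'⁻¹ * y'⁻¹) * c * c⁻¹ * d⁻¹ := by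
            have : c * (x' * (d * y') * x'⁻¹) * (y'⁻¹ * c⁻¹) * d⁻¹ =
              c * (x' * (d * y') * x'⁻¹ * y'⁻¹) * c⁻¹ * d⁻¹ := by group
            rw [this, e1]
        _ = x' * (d * y') * x'⁻¹ * y'⁻¹ * d⁻¹ := by group
        _ = (x' * d) * y' * x'⁻¹ * y'⁻¹ * d⁻¹ := by group
        _ = d * (x' * y' * x'⁻¹ * y'⁻¹) * d⁻¹ := by rw [← e2 x']; group
        _ = x' * y' * x'⁻¹ * y'⁻¹ := by rw [e2]; group
    show c * x' * (d * y') * (c * x')⁻¹ * (d * y')⁻¹ ∈ L
    rw [this]
    exact L.mul_mem (L.mul_mem (L.mul_mem hx' hy') (L.inv_mem hx')) (L.inv_mem hy')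
  have htC : t ∈ centralizer ({t, a} : Set G) := D.E_le_cent D.t_mem
  have h1 := D.comm htC
  have hmap : (commutator D.K).map (Subgroup.subgroupOfEquivOfLe D.cent_le).toMonoidHom =
      commutator (centralizer ({t, a} : Set G)) := by
    rw [_root_.commutator, _root_.commutator, Subgroup.map_commutator]
    have : (⊤ : Subgroup D.K).map (Subgroup.subgroupOfEquivOfLe D.cent_le).toMonoidHom = ⊤ :=
      Subgroup.map_top_of_surjective _ (Subgroup.subgroupOfEquivOfLe D.cent_le).surjective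
    rw [this]
  rw [← hmap] at h1
  obtain ⟨k, hk, hkt⟩ := h1
  have hkt' : ((k : D.N) : G) = t := congrArg Subtype.val hkt
  have hkL := hcomm hk
  have hkE : k ∈ (D.E.subgroupOf D.N).subgroupOf D.K := by
    rw [Subgroup.mem_subgroupOf, Subgroup.mem_subgroupOf, hkt']
    exact D.t_mem
  have hk1 := Subgroup.disjoint_def.1 hL.disjoint hkE hkL
  rw [hk1] at hkt'
  exact D.t1 hkt'.symm

/-- **The normaliser of the four-group.** -/
theorem main : ∃ (E N : Subgroup G) (K : Subgroup ↥N), IsKleinFour ↥E ∧ N = Subgroup.normalizer (E : Set G) ∧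
    E.subgroupOf N ≤ K ∧
    (∃ _ : ((E.subgroupOf N).subgroupOf K).Normal, Nonempty (↥K ⧸ (E.subgroupOf N).subgroupOf K ≃* X)) ∧
    (∃ _ : K.Normal, Nonempty (↥N ⧸ K ≃* Equiv.Perm (Fin 3))) ∧
    ∀ L : Subgroup ↥K, ¬ ((E.subgroupOf N).subgroupOf K).IsComplement' L := by
  have hn1 : ((D.E.subgroupOf D.N).subgroupOf D.K).Normal := by rw [← D.pr_ker]; infer_instance
  have hn2 : D.K.Normal := by rw [← D.ker_toPerm]; infer_instance
  refine ⟨D.E, D.N, D.K, D.isKleinFour, rfl, ?_, ⟨hn1, ?_⟩, ⟨hn2, ?_⟩, D.not_compl⟩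
  · intro x hx
    exact D.E_le_cent hx
  · exact ⟨(QuotientGroup.quotientMulEquivOfEq D.pr_ker.symm).trans
      (QuotientGroup.quotientKerEquivOfSurjective D.pr D.pr_surjective)⟩
  · exact ⟨(QuotientGroup.quotientMulEquivOfEq D.ker_toPerm.symm).trans
      (QuotientGroup.quotientKerEquivOfSurjective D.toPerm D.toPerm_surjective)⟩

end Data

end Cfsg.Agent.H849.FourGroup
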