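import Cfsg.Agent.MonsterN.LitFin
import Cfsg.Agent.MonsterN.Cov
import Cfsg.Agent.MonsterP.SChar
import Cfsg.Agent.MonsterN.BigAConf
import Cfsg.Agent.H849.FourGroup

/-!
# The `2A`-pure four-group of the Monster and `²E₆(2)` (helper849)

`exists_data`: the data `FourGroup.Data` in the `196884`-dimensional model of the Monster.
-/

set_option autoImplicit false
set_option maxRecDepth 100000

open Subgroup

namespace Cfsg.Agent.H849.FourModel

open Cfsg Cfsg.Lie Cfsg.Agent.Bimonster Cfsg.Agent.BabyU Cfsg.Agent.TwoESix.Cover Cfsg.Agent.TwoESix.Cox10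
open Cfsg.Agent.TwoESix.Lift Cfsg.Agent.BabyU.OutFree
open Cfsg.Agent.MonsterX.KSide Cfsg.Agent.MonsterX.KLift Cfsg.Agent.MonsterX.KModel
open Cfsg.Agent.MonsterX.Model Cfsg.Agent.MonsterX.MainPack Cfsg.Agent.MonsterX.MainSimple
open Cfsg.Agent.MonsterX.MainBasic Cfsg.Agent.MonsterU.Assembly Cfsg.Agent.MonsterN Cfsg.Agent.MonsterN.Lit
open Cfsg.Agent.MonsterN.LitInst Cfsg.Agent.MonsterU.Lam2 Cfsg.Agent.MonsterU.TwoCls

section commutators

theorem map_commutator_le {A B : Type*} [Group A] [Group B] (f : A →* B) {x : A} (hx : x ∈ _root_.commutator A) :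
    f x ∈ _root_.commutator B := by
  have h : (_root_.commutator A).map f ≤ _root_.commutator B := by
    rw [_root_.commutator, Subgroup.map_commutator]
    exact Subgroup.commutator_mono le_top le_top
  exact h (Subgroup.mem_map_of_mem f hx)

/-- If one of the words `sig` is trivial, all of them are in the commutator subgroup. -/
theorem sig_mem {C : Type*} [Group C] {m : Fin 10 → C} (hm : M10.IsLiftable m) {k l : Fin 3}
    (hl : sig m l = 1) : sig m k ∈ _root_.commutator C := by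
  let q : C →* C ⧸ _root_.commutator C := QuotientGroup.mk' _
  have hA : ∀ a b : C ⧸ _root_.commutator C, a * b = b * a := by
    intro a b
    exact mul_comm (G := Abelianization C) a b
  have hqm : M10.IsLiftable (fun i => q (m i)) := by
    intro i j
    rw [← map_mul, ← map_pow, hm i j, map_one]
  have key : ∀ k : Fin 3, q (sig m k) = q (m 3) ^ 63 := by
    intro k
    rw [sig, map_pow, ev_map, ev_const hqm hA, W_length, ← pow_mul]
  have h1 : q (sig m k) = 1 := by rw [key, ← key l, hl, map_one]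
  exact (QuotientGroup.eq_one_iff _).1 h1

end commutators

variable {V P W : Type} [AddCommGroup V] [Module ℚ V] [Group P] [AddCommGroup W] [Module ℚ W]
  {D : MData V} {M : KS ↥D.G V P W} {x₀ : P} {θ : leechLattice → P} {K₀ : Type} [Group K₀]

open Cfsg.Agent.MonsterP.SChar in
/-- Two adjacent short elements are exchanged. -/
theorem exists_swap (L : Lift M θ) {x y : P} (hx : x ∈ M.Sh) (hy : IsType 2 (clP L y))
    (hxy : IsType 2 (clP L x + clP L y)) : ∃ k : D.G, k * M.ι x * k⁻¹ = M.ι y ∧ k * M.ι y * k⁻¹ = M.ι x := by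
  have hy' : y ∈ M.Sh := (mem_Sh_iff L y).2 hy
  have hlam : ∀ {x : P}, x ∈ M.Sh → clP L x = cl (M.lam x) := fun {x} h => by
    have h1 : Eqz M (θ (M.lam x)) x := L.lam x h
    exact (clP_eq_cl L).2 h1.symm
  rw [hlam hx, hlam hy'] at hxy
  have had : Ad M x y := BigAConf.dot_of_types (M.lam_norm x hx) (M.lam_norm y hy') hxy
  obtain ⟨k, α, ⟨-, A, T, hA⟩, h1, h2⟩ := trans_pair L hx hy' hy' hx had had.symm
  refine ⟨k, ?_, ?_⟩
  · rw [Cfsg.Agent.MonsterX.KLift.conj_ι hA, h1, mul_inv_cancel_right]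
  · rw [Cfsg.Agent.MonsterX.KLift.conj_ι hA, h2, mul_inv_cancel_right]

/-- **The data of the four-group.** -/
theorem exists_data (A : All D K₀) (H : Link D M x₀) (L : Lift M θ) {τ : D.G} {y' : P}
    (T : Cfsg.Agent.MonsterU.InvTwo.TauHyp M θ ⊤ τ y') {y : ℕ → D.G} (hP : PRel y) (hne : y 0 ≠ y 1)
    (hy : ∃ g : D.G, g * tG A.hG A.hR * g⁻¹ = y 10) (K : Type) [Field K] [Fintype K] (hK : Fintype.card K = 4) :
    ∃ (t a u v : D.G) (π : centralizer ({t, a} : Set D.G) →* twistedE6 K 2), FourGroup.Data t a u v π := by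
  have hfin : Finite D.G := G_finite A.hO
  have hB : Cfsg.IsB Cfsg.Spor.BabyMonster := Cfsg.Agent.S1704.result
  obtain ⟨⟨h1, h2, h3⟩, h43⟩ := ModelB.fieldsKS A H L hP hne hy hB H.x₀_mem
  obtain ⟨f₁, f₂, f₃, f₄, Fc, hcz, hcd, p, hp, hp2, hp2'⟩ := FusInst.exists_facts A H L T H.x₀_mem
  have hzm : M.z ∈ BB M x₀ := mem_centralizer_singleton_iff.2 (by
    show M.ι M.zc * M.ι x₀ = M.ι x₀ * M.ι M.zc
    rw [← map_mul, ← map_mul, M.zc_comm])
  have hE : Emb (BB M x₀).subtype M.z (tb M x₀) f₁ f₂ f₃ :=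
    ⟨Subtype.val_injective, nineteen H A, ((BB M x₀).subtype.map_isConj (hcz hzm)).symm, hcd⟩
  have hsE := EInst.isSimple K hK
  obtain ⟨e0, r, he0, hgen, hr, -, hconj⟩ := TwoESix.GoodInst.exists_good K hK
  have hR : ∀ i, e0 i ∈ rootClass K := fun i => by
    obtain ⟨g, hg⟩ := hconj i
    exact ⟨g, r, hr, hg⟩
  have hHB : Finite HB := Cfsg.Agent.BM.HBFinal.finite_HB
  have hcard := Cfsg.Agent.BM.HBFinal.hcard K hK
  have N : Nodes (tb M x₀) (rootClass K) :=
    NodesLit.nodes he0 hgen hcard (Cfsg.Agent.BM.HBFinal.card_E K hK) hR h1 h2 h3 Fc hE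
  obtain ⟨yB, h, π, h10, -, DK⟩ := N
  have h19 : 19 ∣ Nat.card (twistedE6 K 2) := by
    rw [Cfsg.Agent.BM.HBFinal.card_E K hK]; norm_num
  have hc5 : IsConj f₁ (yB 5) := Lit.conj_five Fc hE h19 h10 DK
  have hc : IsConj (yB 5) (tb M x₀ * yB 5) :=
    hc5.symm.trans (Fc.a_t.trans (FusionType.conj_mul_t Fc.cen hc5))
  obtain ⟨v, hv⟩ := isConj_iff.1 hc
  obtain ⟨b, hb⟩ := isConj_iff.1 hc5
  obtain ⟨k, hk1, hk2⟩ := exists_swap (D := D) L H.x₀_mem hp2 hp2'
  have ht : ((yB 10 : BB M x₀) : D.G) = M.ι x₀ := congrArg Subtype.val h10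
  have htb : ∀ g : BB M x₀, (g : D.G) * M.ι x₀ = M.ι x₀ * g := fun g => mem_centralizer_singleton_iff.1 g.2
  have hb' : (b : D.G) * M.ι p * (b : D.G)⁻¹ = yB 5 := by
    have := congrArg Subtype.val hb
    rw [← this, ← hp]; rfl
  have hv' : (v : D.G) * yB 5 * (v : D.G)⁻¹ = M.ι x₀ * yB 5 := congrArg Subtype.val hv
  have hbt : (b : D.G) * M.ι x₀ * (b : D.G)⁻¹ = M.ι x₀ := by rw [htb b, mul_inv_cancel_right]
  have hbi : (b : D.G)⁻¹ * M.ι x₀ * (b : D.G) = M.ι x₀ := by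
    calc (b : D.G)⁻¹ * M.ι x₀ * (b : D.G) = (b : D.G)⁻¹ * (M.ι x₀ * (b : D.G)) := by group
      _ = (b : D.G)⁻¹ * ((b : D.G) * M.ι x₀) := by rw [htb b]
      _ = M.ι x₀ := by group
  have hbi' : (b : D.G)⁻¹ * yB 5 * (b : D.G) = M.ι p := by rw [← hb']; group
  -- the centraliser
  have hmem : ∀ g : centralizer ({M.ι x₀, ((yB 5 : BB M x₀) : D.G)} : Set D.G),
      (g : D.G) * M.ι x₀ = M.ι x₀ * g ∧ (g : D.G) * yB 5 = yB 5 * g := fun g => FourGroup.mem_cent.1 g.2
  have hBB : ∀ g : centralizer ({M.ι x₀, ((yB 5 : BB M x₀) : D.G)} : Set D.G), (g : D.G) ∈ BB M x₀ := fun g =>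
    mem_centralizer_singleton_iff.2 (hmem g).1
  have hKK : ∀ g : centralizer ({M.ι x₀, ((yB 5 : BB M x₀) : D.G)} : Set D.G),
      (⟨(g : D.G), hBB g⟩ : BB M x₀) ∈ KK yB := fun g =>
    mem_KK.2 ⟨by rw [h10]; exact Subtype.ext (hmem g).1, Subtype.ext (hmem g).2⟩
  let j : centralizer ({M.ι x₀, ((yB 5 : BB M x₀) : D.G)} : Set D.G) →* KK yB :=
    { toFun := fun g => ⟨⟨(g : D.G), hBB g⟩, hKK g⟩
      map_one' := rfl
      map_mul' := fun _ _ => rfl }
  have hinc : ∀ g : KK yB, ((g : BB M x₀) : D.G) ∈ centralizer ({M.ι x₀, ((yB 5 : BB M x₀) : D.G)} : Set D.G) :=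
    fun g => FourGroup.mem_cent.2 ⟨htb g, congrArg Subtype.val (mem_KK.1 g.2).2⟩
  let i : KK yB →* centralizer ({M.ι x₀, ((yB 5 : BB M x₀) : D.G)} : Set D.G) :=
    { toFun := fun g => ⟨((g : BB M x₀) : D.G), hinc g⟩
      map_one' := rfl
      map_mul' := fun _ _ => rfl }
  have hj : Function.Surjective j := fun g => ⟨i g, rfl⟩
  refine ⟨M.ι x₀, ((yB 5 : BB M x₀) : D.G), (b : D.G) * k * (b : D.G)⁻¹, (v : D.G), π.comp j, ?_⟩
  exact
    { tt := by
        have := congrArg Subtype.val (h.sq 10 (by norm_num) (by norm_num))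
        rw [← ht]; exact this
      aa := congrArg Subtype.val (h.sq 5 (by norm_num) (by norm_num))
      ta := (htb (yB 5)).symm
      t1 := fun e => DK.ne2 (Subtype.ext (by rw [ht, e]; rfl))
      a1 := fun e => DK.ne1 (Subtype.ext e)
      ne := fun e => DK.ne (Subtype.ext (by rw [ht]; exact e))
      surj := DK.surj.comp hj
      ker := by
        intro g
        show π (j g) = 1 ↔ _
        rw [DK.ker]
        have e : ∀ x : KK yB, j g = x ↔ (g : D.G) = ((x : BB M x₀) : D.G) := fun x =>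
          ⟨fun h => by rw [← h]; rfl, fun h => Subtype.ext (Subtype.ext h)⟩
        rw [e, e, e, e]
        show (g : D.G) = 1 ∨ (g : D.G) = ((yB 10 : BB M x₀) : D.G) ∨ (g : D.G) = ((yB 5 : BB M x₀) : D.G) ∨
          (g : D.G) = ((yB 10 : BB M x₀) : D.G) * ((yB 5 : BB M x₀) : D.G) ↔ _
        rw [ht]
      ut := by
        calc (b : D.G) * k * (b : D.G)⁻¹ * M.ι x₀ * ((b : D.G) * k * (b : D.G)⁻¹)⁻¹
            = b * (k * ((b : D.G)⁻¹ * M.ι x₀ * (b : D.G)) * k⁻¹) * (b : D.G)⁻¹ := by group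
          _ = b * M.ι p * (b : D.G)⁻¹ := by rw [hbi, hk1]
          _ = yB 5 := hb'
      ua := by
        calc (b : D.G) * k * (b : D.G)⁻¹ * yB 5 * ((b : D.G) * k * (b : D.G)⁻¹)⁻¹
            = b * (k * ((b : D.G)⁻¹ * yB 5 * (b : D.G)) * k⁻¹) * (b : D.G)⁻¹ := by group
          _ = b * M.ι x₀ * (b : D.G)⁻¹ := by rw [hbi', hk2]
          _ = M.ι x₀ := hbt
      vt := by rw [htb v, mul_inv_cancel_right]
      va := hv'
      comm := by
        intro hm
        have h5 : h.f2 ∈ _root_.commutator (KK yB) := by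
          rw [← h.sigK1]
          exact sig_mem h.liftableK h.sigK2
        have h6 := map_commutator_le i h5
        have h7 : i h.f2 = ⟨M.ι x₀, hm⟩ := Subtype.ext ht
        rw [← h7]
        exact h6 }

end Cfsg.Agent.H849.FourModel
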