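import Cfsg.Agent.MonsterU.Chart
import Cfsg.Agent.LargeExtra.Nine.ToCent
import Cfsg.Agent.H849.StabCo3

/-!
# The normaliser of a cyclic group of order 4 of an extraspecial group `2^(1+24)` (helper849)

`cyc_four`: for a chart `Q = 2^(1+24)`, `C(z)/Q = Co1`, and `x ∈ Q` over a class of type 3 the normaliser of `⟨x⟩`
contains `Q` and `N(⟨x⟩) / Q ≃* Co3`.
-/

set_option autoImplicit false

open Cfsg
open Cfsg.Agent.MonsterU.Ch Cfsg.Agent.Co2Type.Quad
open Cfsg.Agent.MonsterU.Lam2
open Cfsg.Spor (Co1 leechV)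

namespace Cfsg.Agent.H849.CycFour

variable {G : Type*} [Group G] {Q : Subgroup G} {z : G} {eta : G → L2}
  {pi : Subgroup.centralizer ({z} : Set G) →* Co1}

theorem pow_cases {x z : G} (hxx : x * x = z) (hzz : z * z = 1) {y : G} (hy : y ∈ Subgroup.zpowers x) :
    y = 1 ∨ y = x ∨ y = z ∨ y = x * z := by
  obtain ⟨k, rfl⟩ := Subgroup.mem_zpowers_iff.1 hy
  have h4 : x ^ (4 : ℤ) = 1 := by
    have : x ^ (4 : ℤ) = (x * x) * (x * x) := by
      rw [zpow_ofNat]; simp only [pow_succ, pow_zero, one_mul, mul_assoc]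
    rw [this, hxx, hzz]
  have h1 : x ^ k = x ^ (k % 4) := by
    conv_lhs => rw [← Int.emod_add_mul_ediv k 4]
    rw [zpow_add, zpow_mul, h4, one_zpow, mul_one]
  have h2 : k % 4 = 0 ∨ k % 4 = 1 ∨ k % 4 = 2 ∨ k % 4 = 3 := by omega
  rcases h2 with h | h | h | h
  · left; rw [h1, h, zpow_zero]
  · right; left; rw [h1, h, zpow_one]
  · right; right; left
    rw [h1, h, ← hxx, zpow_ofNat, pow_two]
  · right; right; right
    rw [h1, h, ← hxx, zpow_ofNat]; simp only [pow_succ, pow_zero, one_mul, mul_assoc]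

theorem mem_norm_iff (h : Chart Q z eta pi) {x : G} (hx : x ∈ Q) (hxx : x * x = z) (g : G) :
    g ∈ Subgroup.normalizer ((Subgroup.zpowers x : Subgroup G) : Set G) ↔ g * x * g⁻¹ = x ∨ g * x * g⁻¹ = x * z := by
  have hzx : z ∈ Subgroup.zpowers x := by
    rw [← hxx]; exact (Subgroup.zpowers x).mul_mem (Subgroup.mem_zpowers x) (Subgroup.mem_zpowers x)
  constructor
  · intro hg
    have h1 : g * x * g⁻¹ ∈ Subgroup.zpowers x :=
      (Subgroup.mem_normalizer_iff.1 hg x).1 (Subgroup.mem_zpowers x)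
    have h2 : (g * x * g⁻¹) * (g * x * g⁻¹) = g * z * g⁻¹ := by rw [← hxx]; group
    rcases pow_cases hxx h.large.z_sq h1 with h3 | h3 | h3 | h3
    · exfalso
      rw [h3, one_mul] at h2
      apply h.large.z_ne
      calc z = g⁻¹ * (g * z * g⁻¹) * g := by group
        _ = 1 := by rw [← h2]; group
    · exact Or.inl h3
    · exfalso
      rw [h3, h.large.z_sq] at h2
      apply h.large.z_ne
      calc z = g⁻¹ * (g * z * g⁻¹) * g := by group
        _ = 1 := by rw [← h2]; group
    · exact Or.inr h3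
  · intro hg
    have hmem : g * x * g⁻¹ ∈ Subgroup.zpowers x := by
      rcases hg with hg | hg
      · rw [hg]; exact Subgroup.mem_zpowers x
      · rw [hg]; exact (Subgroup.zpowers x).mul_mem (Subgroup.mem_zpowers x) hzx
    have hz : g * z * g⁻¹ = z := by
      have h2 : (g * x * g⁻¹) * (g * x * g⁻¹) = g * z * g⁻¹ := by rw [← hxx]; group
      rcases hg with hg | hg
      · rw [hg, hxx] at h2; exact h2.symm
      · rw [← h2, hg]
        calc x * z * (x * z) = x * (z * x) * z := by group
          _ = x * (x * z) * z := by rw [h.large.comm_z x hx]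
          _ = (x * x) * (z * z) := by group
          _ = z := by rw [hxx, h.large.z_sq, mul_one]
    have hinv : g⁻¹ * x * g ∈ Subgroup.zpowers x := by
      rcases hg with hg | hg
      · have : g⁻¹ * x * g = x := by
          calc g⁻¹ * x * g = g⁻¹ * (g * x * g⁻¹) * g := by rw [hg]
            _ = x := by group
        rw [this]; exact Subgroup.mem_zpowers x
      · have h5 : g⁻¹ * z * g = z := by
          calc g⁻¹ * z * g = g⁻¹ * (g * z * g⁻¹) * g := by rw [hz]
            _ = z := by group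
        have : g⁻¹ * x * g = x * z := by
          have h6 : x = g * x * g⁻¹ * z := by rw [hg, mul_assoc, h.large.z_sq, mul_one]
          calc g⁻¹ * x * g = g⁻¹ * (g * x * g⁻¹ * z) * g := by rw [← h6]
            _ = x * (g⁻¹ * z * g) := by group
            _ = x * z := by rw [h5]
        rw [this]; exact (Subgroup.zpowers x).mul_mem (Subgroup.mem_zpowers x) hzx
    rw [Subgroup.mem_normalizer_iff]
    intro y
    constructor
    · intro hy
      obtain ⟨k, rfl⟩ := Subgroup.mem_zpowers_iff.1 hy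
      rw [← conj_zpow]
      exact (Subgroup.zpowers x).zpow_mem hmem k
    · intro hy
      obtain ⟨k, hk⟩ := Subgroup.mem_zpowers_iff.1 hy
      have : y = (g⁻¹ * x * g) ^ k := by
        have h7 : (g⁻¹ * x * g) ^ k = g⁻¹ * x ^ k * g := by
          have := conj_zpow (i := k) (a := g⁻¹) (b := x)
          rwa [inv_inv] at this
        rw [h7, hk]; group
      rw [this]
      exact (Subgroup.zpowers x).zpow_mem hinv k

theorem le_cent (h : Chart Q z eta pi) {x : G} (hx : x ∈ Q) (hxx : x * x = z) :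
    Subgroup.normalizer ((Subgroup.zpowers x : Subgroup G) : Set G) ≤ Subgroup.centralizer ({z} : Set G) := by
  intro g hg
  rw [mem_norm_iff h hx hxx] at hg
  have h2 : (g * x * g⁻¹) * (g * x * g⁻¹) = g * z * g⁻¹ := by rw [← hxx]; group
  have hz : g * z * g⁻¹ = z := by
    rcases hg with hg | hg
    · rw [hg, hxx] at h2; exact h2.symm
    · rw [← h2, hg]
      calc x * z * (x * z) = x * (z * x) * z := by group
        _ = x * (x * z) * z := by rw [h.large.comm_z x hx]
        _ = (x * x) * (z * z) := by group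
        _ = z := by rw [hxx, h.large.z_sq, mul_one]
  rw [Subgroup.mem_centralizer_singleton_iff]
  calc g * z = g * z * g⁻¹ * g := by group
    _ = z * g := by rw [hz]

/-- **The normaliser of a cyclic group of order 4.** -/
theorem cyc_four (h : Chart Q z eta pi) :
    ∃ (C N : Subgroup G) (R : Subgroup ↥N), IsCyclic ↥C ∧ Nat.card ↥C = 4 ∧ N = Subgroup.normalizer (C : Set G) ∧
      Cfsg.IsExtraspecial 2 ↥R ∧ Nat.card ↥R = 2 ^ 25 ∧ ∃ _ : R.Normal, Nonempty (↥N ⧸ R ≃* ↥Cfsg.Spor.Co3) := by
  obtain ⟨x, hx, hxv⟩ := h.eta_surj (cl leechV)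
  have hxx : x * x = z := by
    rw [h.sq_z hx, hxv, qf_of_type StabCo3.isType_V]
    decide
  have hord : orderOf x = 4 := by
    have h1 := orderOf_eq_prime_pow (x := x) (p := 2) (n := 1) (by
      rw [pow_one, pow_two, hxx]; exact h.large.z_ne) (by
      have : x ^ 2 ^ (1 + 1) = (x * x) * (x * x) := by
        norm_num; simp only [pow_succ, pow_zero, one_mul, mul_assoc]
      rw [this, hxx, h.large.z_sq])
    simpa using h1
  have hle := le_cent h hx hxx
  let N : Subgroup G := Subgroup.normalizer ((Subgroup.zpowers x : Subgroup G) : Set G)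
  let f : ↥N →* ↥(MulAction.stabilizer Co1 (cl leechV)) :=
    { toFun := fun n => ⟨pi ⟨n, hle n.2⟩, by
        rw [MulAction.mem_stabilizer_iff, ← hxv, ← h.eta_conj ⟨n, hle n.2⟩ x hx]
        show eta ((n : G) * x * (n : G)⁻¹) = eta x
        rcases (mem_norm_iff h hx hxx n).1 n.2 with h1 | h1
        · rw [h1]
        · rw [h1, h.eta_mul x hx z h.large.z_mem, h.eta_z, add_zero]⟩
      map_one' := Subtype.ext (map_one pi)
      map_mul' := fun a b => Subtype.ext (map_mul pi ⟨a, hle a.2⟩ ⟨b, hle b.2⟩) }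
  have hf : Function.Surjective f := by
    rintro ⟨c, hc⟩
    obtain ⟨d, rfl⟩ := h.pi_surj c
    have h1 : eta ((d : G) * x * (d : G)⁻¹) = eta x := by
      rw [h.eta_conj d x hx, hxv]
      exact MulAction.mem_stabilizer_iff.1 hc
    have h2 : (d : G) * x * (d : G)⁻¹ ∈ Q :=
      h.large.conj_mem d (Subgroup.mem_centralizer_singleton_iff.1 d.2) x hx
    have h3 : (d : G) ∈ N := (mem_norm_iff h hx hxx d).2 ((h.eta_eq h2 hx).1 h1)
    exact ⟨⟨d, h3⟩, rfl⟩
  have hQN : Q ≤ N := by
    intro q hq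
    rw [mem_norm_iff h hx hxx]
    rcases h.large.comm q hq x hx with h1 | h1
    · left; rw [h1]; group
    · right
      have h2 : z * q⁻¹ = q⁻¹ * z := (h.large.comm_z q⁻¹ (Q.inv_mem hq)).symm
      calc q * x * q⁻¹ = x * q * z * q⁻¹ := by rw [h1]
        _ = x * q * (z * q⁻¹) := by group
        _ = x * q * (q⁻¹ * z) := by rw [h2]
        _ = x * z := by group
  have hker : f.ker = Q.subgroupOf N := by
    ext n
    rw [MonoidHom.mem_ker, Subgroup.mem_subgroupOf]
    constructor
    · intro hn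
      exact (h.pi_eq_one ⟨n, hle n.2⟩).1 (congrArg Subtype.val hn)
    · intro hn
      exact Subtype.ext ((h.pi_eq_one ⟨n, hle n.2⟩).2 hn)
  have hQf := h.fin
  refine ⟨Subgroup.zpowers x, N, f.ker, inferInstance, ?_, rfl, ?_, ?_, inferInstance, ?_⟩
  · rw [Nat.card_zpowers, hord]
  · rw [hker]
    exact Cfsg.Agent.J2.ExtQuot.isExtraspecial_of_equiv (Subgroup.subgroupOfEquivOfLe hQN).symm
      (LargeExtra.Nine.ToCent.isExtraspecial_Q h.large (by rw [h.card_Q]; norm_num))
  · rw [hker, Nat.card_congr (Subgroup.subgroupOfEquivOfLe hQN).toEquiv, h.card_Q]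
  · exact ⟨(QuotientGroup.quotientKerEquivOfSurjective f hf).trans StabCo3.stabEquiv.symm⟩

end Cfsg.Agent.H849.CycFour
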