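import Cfsg.Agent.H849.FourGroup

/-!
# Transport of the data of a four-group along an isomorphism (helper849)
-/

set_option autoImplicit false

open Subgroup

namespace Cfsg.Agent.H849.FourGroup

theorem map_comm_le {A B : Type*} [Group A] [Group B] (f : A →* B) {x : A} (hx : x ∈ _root_.commutator A) :
    f x ∈ _root_.commutator B := by
  have h : (_root_.commutator A).map f ≤ _root_.commutator B := by
    rw [_root_.commutator, Subgroup.map_commutator]
    exact Subgroup.commutator_mono le_top le_top
  exact h (Subgroup.mem_map_of_mem f hx)

variable {G H X : Type*} [Group G] [Group H] [Group X]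

/-- **Transport.** -/
theorem Data.exists_map {t a u v : G} {π : centralizer ({t, a} : Set G) →* X} (D : Data t a u v π) (e : G ≃* H) :
    ∃ π' : centralizer ({e t, e a} : Set H) →* X, Data (e t) (e a) (e u) (e v) π' := by
  have hj : ∀ g : centralizer ({e t, e a} : Set H), e.symm (g : H) ∈ centralizer ({t, a} : Set G) := by
    intro g
    have h := mem_cent.1 g.2
    refine mem_cent.2 ⟨?_, ?_⟩
    · apply e.injective
      rw [map_mul, map_mul, e.apply_symm_apply]
      exact h.1
    · apply e.injective
      rw [map_mul, map_mul, e.apply_symm_apply]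
      exact h.2
  have hi : ∀ g : centralizer ({t, a} : Set G), e (g : G) ∈ centralizer ({e t, e a} : Set H) := by
    intro g
    have h := mem_cent.1 g.2
    refine mem_cent.2 ⟨?_, ?_⟩
    · rw [← map_mul, ← map_mul, h.1]
    · rw [← map_mul, ← map_mul, h.2]
  let j : centralizer ({e t, e a} : Set H) →* centralizer ({t, a} : Set G) :=
    { toFun := fun g => ⟨e.symm (g : H), hj g⟩
      map_one' := Subtype.ext (map_one e.symm)
      map_mul' := fun x y => Subtype.ext (map_mul e.symm (x : H) (y : H)) }
  let i : centralizer ({t, a} : Set G) →* centralizer ({e t, e a} : Set H) :=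
    { toFun := fun g => ⟨e (g : G), hi g⟩
      map_one' := Subtype.ext (map_one e)
      map_mul' := fun x y => Subtype.ext (map_mul e (x : G) (y : G)) }
  have hjs : Function.Surjective j := fun g => ⟨i g, Subtype.ext (e.symm_apply_apply (g : G))⟩
  refine ⟨π.comp j, ?_⟩
  have key : ∀ (x : H) (y : G), e.symm x = y ↔ x = e y := fun x y => e.symm_apply_eq
  exact
    { tt := by rw [← map_mul, D.tt, map_one]
      aa := by rw [← map_mul, D.aa, map_one]
      ta := by rw [← map_mul, ← map_mul, D.ta]
      t1 := fun h => D.t1 (e.injective (by rw [h, map_one]))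
      a1 := fun h => D.a1 (e.injective (by rw [h, map_one]))
      ne := fun h => D.ne (e.injective h)
      surj := D.surj.comp hjs
      ker := by
        intro k
        show π (j k) = 1 ↔ _
        rw [D.ker]
        show e.symm (k : H) = 1 ∨ e.symm (k : H) = t ∨ e.symm (k : H) = a ∨ e.symm (k : H) = t * a ↔ _
        rw [key, key, key, key, map_one, map_mul]
      ut := by rw [← map_mul, ← map_inv, ← map_mul, D.ut]
      ua := by rw [← map_mul, ← map_inv, ← map_mul, D.ua]
      vt := by rw [← map_mul, ← map_inv, ← map_mul, D.vt]
      va := by rw [← map_mul, ← map_inv, ← map_mul, D.va, map_mul]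
      comm := by
        intro h
        have ht : t ∈ centralizer ({t, a} : Set G) := mem_cent.2 ⟨rfl, D.ta⟩
        exact map_comm_le i (D.comm ht) }

end Cfsg.Agent.H849.FourGroup
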